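import Mathlib
import Cfsg.Agent.Prune
set_option linter.all false
prune_inst 0x7f00000000000000000000000000000000000000000000000000000000000000000000000000000000000000000000000000000000000000000000000000000000000000000000000000000000000000003fffffffffffffffffffffffffffbeffbdffffffff
open scoped Cfsg.Agent.FastGrp

/-!
# Group actions on quotients, subgroups and elementary abelian groups
-/

set_option autoImplicit false

namespace Cfsg.Agent.H582

open Subgroup
open scoped commutatorElement

section Act

variable {G A : Type*} [Group G] [Group A] [MulDistribMulAction A G]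

/-- The action on the quotient by an invariant normal subgroup. -/
@[reducible] def quotAct (N : Subgroup G) [N.Normal] (hN : ∀ (a : A) (n : G), n ∈ N → a • n ∈ N) :
    MulDistribMulAction A (G ⧸ N) where
  smul a := QuotientGroup.map N N (MulDistribMulAction.toMonoidHom G a) (fun n hn => hN a n hn)
  one_smul := by
    intro x
    induction x using QuotientGroup.induction_on with
    | H g => exact congrArg _ (one_smul A g)
  mul_smul := by
    intro a b x
    induction x using QuotientGroup.induction_on with
    | H g => exact congrArg _ (mul_smul a b g)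
  smul_mul := fun a x y => map_mul _ x y
  smul_one := fun a => map_one _

/-- The action on an invariant subgroup. -/
@[reducible] def subAct (N : Subgroup G) (hN : ∀ (a : A) (n : G), n ∈ N → a • n ∈ N) :
    MulDistribMulAction A N where
  smul a n := ⟨a • (n : G), hN a n n.2⟩
  one_smul n := Subtype.ext (one_smul A (n : G))
  mul_smul a b n := Subtype.ext (mul_smul a b (n : G))
  smul_mul a x y := Subtype.ext (smul_mul' a (x : G) (y : G))
  smul_one a := Subtype.ext (smul_one a)

end Act

/-- A nontrivial finite solvable group has a nontrivial characteristic elementary abelian subgroup. -/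
theorem exists_char_elemAb (N : Type*) [Group N] [Finite N] [Nontrivial N] (hsol : Group.IsSolvable N) :
    ∃ q, q.Prime ∧ q ∣ Nat.card N ∧ ∃ V : Subgroup N, V.Characteristic ∧ V ≠ ⊥ ∧
      (∀ x ∈ V, ∀ y ∈ V, x * y = y * x) ∧ ∀ x ∈ V, x ^ q = 1 := by
  classical
  obtain ⟨n, hn⟩ := hsol.solvable
  have hex : ∃ n, derivedSeries N n = ⊥ := ⟨n, hn⟩
  have h0 : Nat.find hex ≠ 0 := by
    intro h
    have h1 := Nat.find_spec hex
    rw [h, derivedSeries_zero] at h1
    exact top_ne_bot h1
  obtain ⟨m, hm⟩ := Nat.exists_eq_succ_of_ne_zero h0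
  have hD : derivedSeries N m ≠ ⊥ := Nat.find_min hex (by omega)
  have hD1 : derivedSeries N (m + 1) = ⊥ := by
    have := Nat.find_spec hex
    rwa [hm] at this
  rw [derivedSeries_succ] at hD1
  set D := derivedSeries N m with hDdef
  have hcomm : ∀ x ∈ D, ∀ y ∈ D, x * y = y * x := by
    intro x hx y hy
    have h1 : ⁅x, y⁆ ∈ ⁅D, D⁆ := Subgroup.commutator_mem_commutator hx hy
    rw [hD1, Subgroup.mem_bot, commutatorElement_eq_one_iff_mul_comm] at h1
    exact h1
  have hcardD : Nat.card D ≠ 1 := by
    intro h
    exact hD (Subgroup.card_eq_one.1 h)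
  set q := (Nat.card D).minFac with hq
  have hqp : q.Prime := Nat.minFac_prime hcardD
  have hqD : q ∣ Nat.card D := Nat.minFac_dvd _
  refine ⟨q, hqp, hqD.trans (Subgroup.card_subgroup_dvd_card D), ?_⟩
  let V : Subgroup N :=
    { carrier := {x | x ∈ D ∧ x ^ q = 1}
      mul_mem' := by
        rintro a b ⟨ha, ha'⟩ ⟨hb, hb'⟩
        have hab : Commute a b := hcomm a ha b hb
        exact ⟨D.mul_mem ha hb, by rw [hab.mul_pow, ha', hb', mul_one]⟩
      one_mem' := ⟨D.one_mem, one_pow _⟩
      inv_mem' := by
        rintro a ⟨ha, ha'⟩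
        exact ⟨D.inv_mem ha, by rw [inv_pow, ha', inv_one]⟩ }
  have hchar : D.Characteristic := inferInstance
  refine ⟨V, ?_, ?_, ?_, ?_⟩
  · rw [Subgroup.characteristic_iff_le_comap]
    intro φ x hx
    refine ⟨?_, ?_⟩
    · have := (Subgroup.characteristic_iff_le_comap.1 hchar) φ hx.1
      exact this
    · change φ x ^ q = 1
      rw [← map_pow, hx.2, map_one]
  · have : Fact q.Prime := ⟨hqp⟩
    obtain ⟨x, hx⟩ := exists_prime_orderOf_dvd_card' q hqD
    intro hbot
    have hxV : (x : N) ∈ V := ⟨x.2, by
      have := pow_orderOf_eq_one x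
      rw [hx] at this
      exact congrArg Subtype.val this⟩
    rw [hbot, Subgroup.mem_bot] at hxV
    have : x = 1 := Subtype.ext hxV
    rw [this, orderOf_one] at hx
    exact hqp.one_lt.ne hx
  · rintro x ⟨hx, -⟩ y ⟨hy, -⟩
    exact hcomm x hx y hy
  · rintro x ⟨-, hx⟩
    exact hx

/-- Automorphisms of an elementary abelian group as linear maps. -/
noncomputable def autToEnd (q : ℕ) (V : Type*) [CommGroup V] [Module (ZMod q) (Additive V)] :
    MulAut V →* Module.End (ZMod q) (Additive V) where
  toFun φ := (MonoidHom.toAdditive φ.toMonoidHom).toZModLinearMap q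
  map_one' := by ext v; rfl
  map_mul' a b := by ext v; rfl

end Cfsg.Agent.H582
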