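import Mathlib
import Cfsg.Agent.S0059
import Cfsg.Agent.H582.Fpf
import Cfsg.Agent.H582.FreeMod
import Cfsg.Agent.H582.Act
import Cfsg.Agent.Solvable.FrobeniusKernel
import Cfsg.Agent.S0042
import Cfsg.Agent.Lib.Cores
import Cfsg.Agent.OddOrderLocal.PiCore
import Cfsg.Agent.OddOrderLocal.PLengthOne
import Cfsg.Agent.FastGrp
import Cfsg.Agent.Prune
set_option linter.all false
prune_inst 0x7ffdfefbbffceddfffff7fffa7dccffc3b969fffb6fffd4bffe0ebfffbbf238a0de7fbbd89f0d8fe5ff6c33c90b87803f9ffca3feb6bdc7ffffd5ff45ffbee1ff7ffbd2971d68c341fbc6ffff3f0778e7f3fffffffffffffffffffffffffffbeffbfffffffff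
open scoped Cfsg.Agent.FastGrp

-- part: H582/Weights
section
/-!
# Simultaneous eigenspaces of commuting operators of finite order

* `wt σ l` : the simultaneous eigenspace of the operators `σ z` with eigenvalues `l z`;
* `wt_indep`, `iSup_wt` : they are independent, and span the space if the operators have finite order prime to the
  characteristic and the field is algebraically closed.
-/

set_option autoImplicit false

namespace Cfsg.Agent.H582

open Module

section Weights

variable {k V Z : Type*} [Field k] [AddCommGroup V] [Module k V]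

/-- The simultaneous eigenspace of the operators `σ z` with eigenvalues `l z`. -/
def wt (σ : Z → End k V) (l : Z → k) : Submodule k V where
  carrier := {v | ∀ z, σ z v = l z • v}
  add_mem' := by
    intro a b ha hb z
    simp only [Set.mem_ofPred_eq] at ha hb
    rw [map_add, ha z, hb z, smul_add]
  zero_mem' := by intro z; simp
  smul_mem' := by
    intro c x hx z
    simp only [Set.mem_ofPred_eq] at hx
    rw [map_smul, hx z, smul_comm]

theorem mem_wt {σ : Z → End k V} {l : Z → k} {v : V} : v ∈ wt σ l ↔ ∀ z, σ z v = l z • v := Iff.rfl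

theorem wt_eq (σ : Z → End k V) (l : Z → k) : wt σ l = ⨅ z, (σ z).eigenspace (l z) := by
  ext v
  simp only [mem_wt, Submodule.mem_iInf, _root_.Cfsg.Agent.H582.mem_wt, _root_.Submodule.mem_iInf, _root_.Module.End.mem_genEigenspace_one]

theorem wt_le (σ : Z → End k V) (l : Z → k) : wt σ l ≤ ⨅ z, (σ z).maxGenEigenspace (l z) := by
  rw [wt_eq]
  refine iInf_mono fun z => ?_
  exact ((σ z).genEigenspace (l z)).monotone le_top

theorem wt_indep (σ : Z → End k V) (hcomm : ∀ z w, Commute (σ z) (σ w)) : iSupIndep (wt σ) := by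
  have h := Module.End.independent_iInf_maxGenEigenspace_of_forall_mapsTo σ
    (fun i j φ => Module.End.mapsTo_maxGenEigenspace_of_comm (hcomm j i) φ)
  exact h.mono fun l => wt_le σ l

theorem iSup_wt [IsAlgClosed k] [FiniteDimensional k V] (σ : Z → End k V)
    (hcomm : ∀ z w, Commute (σ z) (σ w)) {n : ℕ} (hn : (n : k) ≠ 0) (hσ : ∀ z, σ z ^ n = 1) :
    ⨆ l, wt σ l = ⊤ := by
  have hss : ∀ z, (σ z).IsSemisimple := by
    intro z
    refine Module.End.isSemisimple_of_squarefree_aeval_eq_zero (p := Polynomial.X ^ n - 1) ?_ ?_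
    · exact ((Polynomial.X_pow_sub_one_separable_iff).2 hn).squarefree
    · simp [hσ z]
  have h := Module.End.iSup_iInf_maxGenEigenspace_eq_top_of_iSup_maxGenEigenspace_eq_top_of_commute σ
    (fun i j _ => hcomm i j) (fun i => Module.End.iSup_maxGenEigenspace_eq_top (σ i))
  rw [← h]
  refine iSup_congr fun l => ?_
  rw [wt_eq]
  refine iInf_congr fun z => ?_
  exact ((hss z).isFinitelySemisimple.maxGenEigenspace_eq_eigenspace (l z)).symm

end Weights

end Cfsg.Agent.H582
end

-- part: H582/FrobGroup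
section
/-!
# Point stabilisers in actions of a Frobenius group

`IsFH F H` : `A = FH`, `F` normal, every non-identity element of `H` acts on `F` without fixed points (the case
`H = 1` is allowed), `F` solvable of order prime to that of `H`.  `A` acts on `I`, and some non-identity element of
`H` fixes `i`:

* `IsFH.unique` : an element of `F i` fixed by a non-identity element of `H` fixing `i` is `i`;
* `IsFH.fix_of_mem_orbit` : `h ∈ H` with `h i ∈ F i` fixes `i`;
* `IsFH.stab` : the stabiliser of `i` is `(F ∩ A_i)(H ∩ A_i)`;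
* `IsFH.semiregular` : if `f i ≠ i` then the stabiliser of `f i` in `H` is trivial.
-/

set_option autoImplicit false

namespace Cfsg.Agent.H582

/-- `A = FH` with `F` normal and solvable, of order prime to the order of `H`, and the non-identity elements of `H`
acting on `F` without fixed points. -/
structure IsFH {A : Type*} [Group A] (F H : Subgroup A) : Prop where
  normal : F.Normal
  sup : F ⊔ H = ⊤
  frob : ∀ h ∈ H, h ≠ 1 → ∀ f ∈ F, h * f = f * h → f = 1
  cop : (Nat.card F).Coprime (Nat.card H)
  sol : Group.IsSolvable F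

namespace IsFH

variable {A : Type*} [Group A] [Finite A] {F H : Subgroup A}

omit [Finite A] in
theorem exists_mul (hFH : IsFH F H) (a : A) : ∃ f ∈ F, ∃ h ∈ H, a = f * h := by
  have := hFH.normal
  have ha : a ∈ F ⊔ H := by rw [hFH.sup]; exact Subgroup.mem_top a
  rw [← SetLike.mem_coe, Subgroup.normal_mul] at ha
  obtain ⟨f, hf, h, hh, rfl⟩ := ha
  exact ⟨f, hf, h, hh, rfl⟩

omit [Finite A] in
theorem inf_eq_bot (hFH : IsFH F H) : F ⊓ H = ⊥ := by
  have := hFH.normal
  rw [eq_bot_iff]
  intro x hx
  by_contra hne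
  rw [Subgroup.mem_bot] at hne
  exact hne (hFH.frob x hx.2 hne x hx.1 rfl)

variable {I : Type*} [MulAction A I]

theorem unique (hFH : IsFH F H) {h : A} (hh : h ∈ H) (h1 : h ≠ 1) {i : I} (hi : h • i = i) {f : A}
    (hf : f ∈ F) (hj : h • f • i = f • i) : f • i = i := by
  have := hFH.normal
  let T := {x : A // x ∈ F ∧ x • i = i}
  let φ : T → T := fun x => ⟨(x : A)⁻¹ * (h * x * h⁻¹),
    F.mul_mem (F.inv_mem x.2.1) (hFH.normal.conj_mem _ x.2.1 h), by
      have h2 : h⁻¹ • i = i := by rw [inv_smul_eq_iff, hi]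
      have h3 : (x : A)⁻¹ • i = i := by rw [inv_smul_eq_iff, x.2.2]
      rw [mul_smul, mul_smul, mul_smul, h2, x.2.2, hi, h3]⟩
  have key : ∀ x ∈ F, ∀ y ∈ F, x⁻¹ * (h * x * h⁻¹) = y⁻¹ * (h * y * h⁻¹) → x = y := by
    intro x hx y hy hxy
    have h4 : h * (y * x⁻¹) = y * x⁻¹ * h := by
      have h5 : y * (x⁻¹ * (h * x * h⁻¹)) = y * (y⁻¹ * (h * y * h⁻¹)) := by rw [hxy]
      have h6 : y * x⁻¹ * h = y * (x⁻¹ * (h * x * h⁻¹)) * (h * x⁻¹) := by group
      rw [h6, h5]; group
    have h7 := hFH.frob h hh h1 (y * x⁻¹) (F.mul_mem hy (F.inv_mem hx)) h4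
    rw [mul_inv_eq_one] at h7
    exact h7.symm
  have hinj : Function.Injective φ := by
    intro x y hxy
    apply Subtype.ext
    exact key x x.2.1 y y.2.1 (congrArg Subtype.val hxy)
  have hsurj := Finite.surjective_of_injective hinj
  have hmem : f⁻¹ * (h * f * h⁻¹) ∈ F := F.mul_mem (F.inv_mem hf) (hFH.normal.conj_mem _ hf h)
  have hfix : (f⁻¹ * (h * f * h⁻¹)) • i = i := by
    have h2 : h⁻¹ • i = i := by rw [inv_smul_eq_iff, hi]
    rw [mul_smul, mul_smul, mul_smul, h2, hj, inv_smul_smul]
  obtain ⟨x, hx⟩ := hsurj ⟨_, hmem, hfix⟩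
  have h8 := key x x.2.1 f hf (congrArg Subtype.val hx)
  rw [← h8]; exact x.2.2

/-- The stabiliser of the `F`-orbit of `i`. -/
def orbStab (hF : F.Normal) (i : I) : Subgroup A where
  carrier := {a | ∃ f ∈ F, a • i = f • i}
  mul_mem' := by
    rintro a b ⟨f, hf, ha⟩ ⟨f', hf', hb⟩
    refine ⟨(a * f' * a⁻¹) * f, F.mul_mem (hF.conj_mem _ hf' a) hf, ?_⟩
    rw [mul_smul, hb, mul_smul, ← ha, ← mul_smul, ← mul_smul]
    congr 1; group
  one_mem' := ⟨1, F.one_mem, rfl⟩
  inv_mem' := by
    rintro a ⟨f, hf, ha⟩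
    refine ⟨(a⁻¹ * f * a)⁻¹, F.inv_mem (by simpa using hF.conj_mem _ hf a⁻¹), ?_⟩
    rw [eq_inv_smul_iff, mul_smul, mul_smul, smul_inv_smul, ← ha, inv_smul_smul]

theorem fix_of_mem_orbit (hFH : IsFH F H) {i : I} {h₁ : A} (hh₁ : h₁ ∈ H) (h₁1 : h₁ ≠ 1) (hi : h₁ • i = i)
    {h : A} (hh : h ∈ H) {f : A} (hf : f ∈ F) (hfi : h • i = f • i) : h • i = i := by
  have := hFH.normal
  set B := orbStab hFH.normal i with hB
  have hFB : F ≤ B := fun x hx => ⟨x, hx, rfl⟩
  have hc : Subgroup.IsComplement' (F.subgroupOf B) (H.subgroupOf B) := by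
    refine Subgroup.isComplement'_of_disjoint_and_mul_eq_univ ?_ ?_
    · rw [disjoint_iff, eq_bot_iff]
      rintro x ⟨hx1, hx2⟩
      have : (x : A) ∈ F ⊓ H := ⟨hx1, hx2⟩
      rw [hFH.inf_eq_bot, Subgroup.mem_bot] at this
      rw [Subgroup.mem_bot]
      exact Subtype.ext this
    · rw [Set.eq_univ_iff_forall]
      intro x
      obtain ⟨f, hf, h, hh, hx⟩ := hFH.exists_mul (x : A)
      have hhB : h ∈ B := by
        have : h = f⁻¹ * x := by rw [hx]; group
        rw [this]
        exact B.mul_mem (hFB (F.inv_mem hf)) x.2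
      exact ⟨⟨f, hFB hf⟩, hf, ⟨h, hhB⟩, hh, Subtype.ext hx.symm⟩
  have hcardF : Nat.card (F.subgroupOf B) = Nat.card F := Nat.card_congr (Subgroup.subgroupOfEquivOfLe hFB).toEquiv
  have hcardH : Nat.card (H.subgroupOf B) ∣ Nat.card H := by
    rw [← Subgroup.inf_subgroupOf_right H B, Nat.card_congr (Subgroup.subgroupOfEquivOfLe inf_le_right).toEquiv]
    exact Subgroup.card_dvd_of_le inf_le_left
  have hcop : (Nat.card (F.subgroupOf B)).Coprime (F.subgroupOf B).index := by
    rw [hc.symm.index_eq_card, hcardF]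
    exact Nat.Coprime.coprime_dvd_right hcardH hFH.cop
  have hsol : Group.IsSolvable (F.subgroupOf B) := by
    have := hFH.sol
    exact Group.isSolvable_of_isSolvable_injective
      (f := (Subgroup.subgroupOfEquivOfLe hFB).toMonoidHom) (MulEquiv.injective _)
  have htrans : MulAction.IsPretransitive (F.subgroupOf B) (MulAction.orbit B i) := by
    refine MulAction.IsPretransitive.mk ?_
    have hkey : ∀ x : MulAction.orbit B i, ∃ g : F.subgroupOf B, g • (⟨i, MulAction.mem_orbit_self i⟩ : MulAction.orbit B i) = x := by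
      rintro ⟨x, b, rfl⟩
      obtain ⟨f, hf, hb⟩ := b.2
      exact ⟨⟨⟨f, hFB hf⟩, hf⟩, Subtype.ext hb.symm⟩
    intro x y
    obtain ⟨g, rfl⟩ := hkey x
    obtain ⟨g', rfl⟩ := hkey y
    exact ⟨g' * g⁻¹, by rw [mul_smul, inv_smul_smul]⟩
  have : Nonempty (MulAction.orbit B i) := ⟨⟨i, MulAction.mem_orbit_self i⟩⟩
  obtain ⟨⟨⟨w, b, rfl⟩, hw⟩, -⟩ := Cfsg.Agent.S0059.result (X := MulAction.orbit B i) (F.subgroupOf B) (H.subgroupOf B) hc hcop
    (Or.inl hsol) htrans
  have hw' : ∀ x ∈ H, x ∈ B → x • (b • i) = b • i := by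
    intro x hx hxB
    have := hw ⟨x, hxB⟩ hx
    exact congrArg Subtype.val this
  obtain ⟨f', hf', hb⟩ := b.2
  have hb' : b • i = f' • i := hb
  rw [hb'] at hw'
  have h₁B : h₁ ∈ B := ⟨1, F.one_mem, by rw [hi, one_smul]⟩
  have h9 := hFH.unique hh₁ h₁1 hi hf' (hw' h₁ hh₁ h₁B)
  rw [h9] at hw'
  exact hw' h hh ⟨f, hf, hfi⟩

theorem stab (hFH : IsFH F H) {i : I} {h₁ : A} (hh₁ : h₁ ∈ H) (h₁1 : h₁ ≠ 1) (hi : h₁ • i = i)
    {a : A} (ha : a • i = i) : ∃ f ∈ F, ∃ h ∈ H, a = f * h ∧ f • i = i ∧ h • i = i := by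
  obtain ⟨f, hf, h, hh, rfl⟩ := hFH.exists_mul a
  have h2 : h • i = f⁻¹ • i := by rw [eq_inv_smul_iff, ← mul_smul, ha]
  have h3 := hFH.fix_of_mem_orbit hh₁ h₁1 hi hh (F.inv_mem hf) h2
  refine ⟨f, hf, h, hh, rfl, ?_, h3⟩
  rw [mul_smul, h3] at ha
  exact ha

theorem semiregular (hFH : IsFH F H) {i : I} {h₁ : A} (hh₁ : h₁ ∈ H) (h₁1 : h₁ ≠ 1) (hi : h₁ • i = i)
    {f : A} (hf : f ∈ F) (hfi : f • i ≠ i) {h : A} (hh : h ∈ H) (hhf : h • f • i = f • i) : h = 1 := by
  have := hFH.normal
  by_contra h1
  apply hfi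
  have h2 : h • i = (h * f⁻¹ * h⁻¹ * f) • i := by
    have h3 : (h * f⁻¹ * h⁻¹ * f) • i = (h * f⁻¹ * h⁻¹) • (h • f • i) := by rw [hhf, mul_smul]
    rw [h3, ← mul_smul, ← mul_smul]
    congr 1; group
  have h4 := hFH.fix_of_mem_orbit hh₁ h₁1 hi hh
    (F.mul_mem (hFH.normal.conj_mem _ (F.inv_mem hf) h) hf) h2
  exact hFH.unique hh h1 h4 hf hhf

end IsFH

end Cfsg.Agent.H582
end

-- part: H582/Clifford
section
/-!
# Systems of imprimitivity for Frobenius groups of operators
-/

set_option autoImplicit false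

namespace Cfsg.Agent.H582

open Module

section Compare

variable {k V A I : Type*} [Field k] [AddCommGroup V] [Module k V] [Group A] [Finite A] [MulAction A I]

/-- If `c` preserves all `W i` and is trivial on the fixed points of `H`, then it is trivial on the vectors of `W i`
fixed by the stabiliser of `i` in `H`. -/
theorem compare (W : I → Submodule k V) (hind : iSupIndep W) (ρ : A →* End k V)
    (hW : ∀ (a : A) (i : I) (v : V), v ∈ W i → ρ a v ∈ W (a • i)) (H : Subgroup A)
    (c : End k V) (hcW : ∀ i v, v ∈ W i → c v ∈ W i)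
    (hc : ∀ v, (∀ h ∈ H, ρ h v = v) → c v = v)
    {i : I} {w : V} (hw : w ∈ W i) (hfix : ∀ h ∈ H, h • i = i → ρ h w = w) : c w = w := by
  classical
  have : Finite (MulAction.orbit H i) := (Set.finite_range (fun h : H => h • i)).to_subtype
  have := Fintype.ofFinite (MulAction.orbit H i)
  have hex : ∀ j : MulAction.orbit H i, ∃ h : H, h • i = (j : I) := fun j => j.2
  choose t ht using hex
  let g : MulAction.orbit H i → V := fun j => ρ (t j : A) w
  have hgH : ∀ (h : H) (j : MulAction.orbit H i), ρ (h : A) (g j) = g (h • j) := by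
    intro h j
    have h1 : ((t (h • j))⁻¹ * (h * t j) : H) • i = i := by
      rw [mul_smul, mul_smul, ht j, inv_smul_eq_iff, ht (h • j)]; rfl
    have h2 := hfix (((t (h • j))⁻¹ * (h * t j) : H) : A) (SetLike.coe_mem _) h1
    have h3 : ρ ((t (h • j) : H) : A) (ρ (((t (h • j))⁻¹ * (h * t j) : H) : A) w) = g (h • j) := by rw [h2]
    rw [← h3]
    change ρ (h : A) (ρ (t j : A) w) = _
    rw [← Module.End.mul_apply, ← Module.End.mul_apply, ← map_mul, ← map_mul]
    congr 2
    push_cast
    group
  have hv : ∀ h ∈ H, ρ h (∑ j, g j) = ∑ j, g j := by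
    intro h hh
    rw [map_sum]
    have : ∀ j, ρ h (g j) = g ((⟨h, hh⟩ : H) • j) := fun j => hgH ⟨h, hh⟩ j
    simp_rw [this]
    exact Fintype.sum_equiv (MulAction.toPerm (⟨h, hh⟩ : H)) _ _ (fun _ => rfl)
  have h4 := hc _ hv
  have h5 : ∑ j, (c (g j) - g j) = 0 := by
    rw [Finset.sum_sub_distrib, ← map_sum, h4, sub_self]
  have hgW : ∀ j : MulAction.orbit H i, g j ∈ W j := by
    intro j
    have := hW (t j : A) i w hw
    have h6 : ((t j : A) • i) = j := ht j
    rw [h6] at this
    exact this
  have hind' : iSupIndep (fun j : MulAction.orbit H i => W (j : I)) := hind.comp Subtype.val_injective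
  have h7 := (iSupIndep_iff_finsetSum_eq_zero_imp_eq_zero _).1 hind' Finset.univ (fun j => c (g j) - g j)
    (fun j _ => Submodule.sub_mem _ (hcW _ _ (hgW j)) (hgW j)) h5 ⟨i, MulAction.mem_orbit_self i⟩ (Finset.mem_univ _)
  have h8 : g ⟨i, MulAction.mem_orbit_self i⟩ = w := by
    have h9 := ht ⟨i, MulAction.mem_orbit_self i⟩
    exact hfix _ (SetLike.coe_mem _) h9
  simp only [h8] at h7
  exact sub_eq_zero.1 h7

end Compare

section Main

theorem map_prod_smul {k V P J : Type*} [Field k] [AddCommGroup V] [Module k V] [Group P]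
    (π : P →* End k V) (L : List J) (g : J → P) (s : J → k) (v : V)
    (h : ∀ j ∈ L, π (g j) v = s j • v) : π (L.map g).prod v = (L.map s).prod • v := by
  induction L with
  | nil => simp only [_root_.List.map_nil, _root_.List.prod_nil, _root_.map_one, _root_.Module.End.one_apply, _root_.one_smul]
  | cons j L ih =>
    rw [List.map_cons, List.prod_cons, List.map_cons, List.prod_cons, map_mul, Module.End.mul_apply,
      ih (fun i hi => h i (List.mem_cons_of_mem _ hi)), map_smul, h j List.mem_cons_self, smul_smul, mul_comm]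

/-- The restriction of a homomorphism to an invariant subspace. -/
def resHom {k V G : Type*} [Field k] [AddCommGroup V] [Module k V] [Group G] (ρ : G →* End k V)
    (W : Submodule k V) (h : ∀ g, ∀ v ∈ W, ρ g v ∈ W) : G →* End k W where
  toFun g := (ρ g).restrict (h g)
  map_one' := by ext v; simp only [_root_.map_one, _root_.LinearMap.coe_restrict_apply, _root_.Module.End.one_apply]
  map_mul' a b := by ext v; simp only [_root_.map_mul, _root_.LinearMap.coe_restrict_apply, _root_.Module.End.mul_apply]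

@[simp] theorem resHom_apply {k V G : Type*} [Field k] [AddCommGroup V] [Module k V] [Group G] (ρ : G →* End k V)
    (W : Submodule k V) (h : ∀ g, ∀ v ∈ W, ρ g v ∈ W) (g : G) (v : W) : ((resHom ρ W h g v : W) : V) = ρ g v := rfl

universe u v w w'

/-- **Faithful action on the fixed points of the complement.** `A = FH` acts on the `p`-group `P` and, compatibly, on
`V`; no element of `P` acts as a scalar `≠ 1` on an `F`-invariant subspace of `V`.  Then an element of `P` which is
trivial on the fixed points of `H` in `V` is trivial on `V`. -/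
theorem trivial_of_trivial_on_fixed {k : Type u} [Field k] [IsAlgClosed k] {p : ℕ} [Fact p.Prime] (hpk : (p : k) ≠ 0) :
    ∀ (n : ℕ) (V : Type v) [AddCommGroup V] [Module k V] [FiniteDimensional k V] (A : Type w) [Group A] [Finite A]
      (F H : Subgroup A) (_ : IsFH F H) (P : Type w') [Group P] [Finite P] [MulDistribMulAction A P]
      (_ : IsPGroup p P) (ρ : A →* End k V) (π : P →* End k V)
      (_ : ∀ a x v, ρ a (π x v) = π (a • x) (ρ a v))
      (_ : ∀ (x : P) (μ : k) (U : Submodule k V), (∀ f ∈ F, ∀ u ∈ U, ρ f u ∈ U) → (∀ u ∈ U, π x u = μ • u) →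
        ∀ u ∈ U, π x u = u)
      (c : P) (_ : ∀ v, (∀ h ∈ H, ρ h v = v) → π c v = v), finrank k V ≤ n → ∀ v, π c v = v := by
  classical
  intro n
  induction n with
  | zero =>
    intro V _ _ _ A _ _ F H hFH P _ _ _ hP ρ π hcompat hS c hc hn v
    have h0 : finrank k V = 0 := Nat.le_zero.1 hn
    have : Subsingleton V := finrank_zero_iff.1 h0
    exact Subsingleton.elim _ _
  | succ n ih =>
    intro V _ _ _ A _ _ F H hFH P _ _ _ hP ρ π hcompat hS c hc hn
    by_contra hne
    push Not at hne
    obtain ⟨v₀, hv₀⟩ := hne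
    have hFn := hFH.normal
    have hπinv : ∀ a v, π a (π a⁻¹ v) = v := by
      intro a v
      rw [← Module.End.mul_apply, ← map_mul, mul_inv_cancel, map_one, Module.End.one_apply]
    have hπinv' : ∀ a v, π a⁻¹ (π a v) = v := by
      intro a v
      rw [← Module.End.mul_apply, ← map_mul, inv_mul_cancel, map_one, Module.End.one_apply]
    -- the centre modulo the kernel
    let Z : Subgroup P :=
      { carrier := {z | ∀ x v, π z (π x v) = π x (π z v)}
        mul_mem' := by
          intro a b ha hb x v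
          rw [map_mul, Module.End.mul_apply, Module.End.mul_apply, hb x v, ha x]
        one_mem' := by intro x v; simp only [_root_.map_one, _root_.Module.End.one_apply]
        inv_mem' := by
          intro a ha x v
          have h1 : π a (π a⁻¹ (π x v)) = π a (π x (π a⁻¹ v)) := by rw [ha x, hπinv, hπinv]
          have h2 := congrArg (π a⁻¹) h1
          rw [hπinv', hπinv'] at h2
          exact h2 }
    have hZ : ∀ {z : P}, z ∈ Z ↔ ∀ x v, π z (π x v) = π x (π z v) := Iff.rfl
    -- the inverse of `ρ a`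
    have hρinv : ∀ a v, ρ a (ρ a⁻¹ v) = v := by
      intro a v
      rw [← Module.End.mul_apply, ← map_mul, mul_inv_cancel, map_one, Module.End.one_apply]
    have hρinv' : ∀ a v, ρ a⁻¹ (ρ a v) = v := by
      intro a v
      rw [← Module.End.mul_apply, ← map_mul, inv_mul_cancel, map_one, Module.End.one_apply]
    have hπ : ∀ a x v, π (a • x) v = ρ a (π x (ρ a⁻¹ v)) := by
      intro a x v
      rw [hcompat, hρinv]
    have hZA : ∀ (a : A) (z : P), z ∈ Z → a • z ∈ Z := by
      intro a z hz x v
      have hx : x = a • (a⁻¹ • x) := by rw [smul_inv_smul]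
      rw [hx, hπ a z, hπ a (a⁻¹ • x), hπ a (a⁻¹ • x), hρinv', hz, hπ a z, hρinv']
    let σ : Z → End k V := fun z => π z
    have hcomm : ∀ z w, Commute (σ z) (σ w) := by
      intro z w
      refine LinearMap.ext fun v => ?_
      exact z.2 w v
    have hcard : ((Nat.card P : ℕ) : k) ≠ 0 := by
      obtain ⟨m, hm⟩ := (IsPGroup.iff_card).1 hP
      rw [hm]
      push_cast
      exact pow_ne_zero m hpk
    have hσ : ∀ z, σ z ^ Nat.card P = 1 := by
      intro z
      change π z ^ _ = 1
      rw [← map_pow, pow_card_eq_one', map_one]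
    have hind := wt_indep σ hcomm
    have htop := iSup_wt σ hcomm hcard hσ
    -- the action on the weights
    let _ : MulAction A (Z → k) :=
      { smul := fun a l z => l ⟨a⁻¹ • (z : P), hZA a⁻¹ z z.2⟩
        one_smul := by
          intro l
          funext z
          change l _ = l z
          congr 1
          apply Subtype.ext
          simp
        mul_smul := by
          intro a b l
          funext z
          change l _ = l _
          congr 1
          apply Subtype.ext
          simp only [mul_smul, _root_.mul_inv_rev, _root_.SemigroupAction.mul_smul] }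
    have hact : ∀ (a : A) (l : Z → k) (z : Z), (a • l) z = l ⟨a⁻¹ • (z : P), hZA a⁻¹ z z.2⟩ := fun _ _ _ => rfl
    have hW : ∀ (a : A) (l : Z → k) (v : V), v ∈ wt σ l → ρ a v ∈ wt σ (a • l) := by
      intro a l v hv z
      rw [hact]
      have h1 := hv ⟨a⁻¹ • (z : P), hZA a⁻¹ z z.2⟩
      change π (a⁻¹ • (z : P)) v = _ at h1
      have h2 : π (z : P) (ρ a v) = ρ a (π (a⁻¹ • (z : P)) v) := by rw [hcompat, smul_inv_smul]
      change π (z : P) (ρ a v) = _
      rw [h2, h1, map_smul]
    have hPW : ∀ (x : P) (l : Z → k) (v : V), v ∈ wt σ l → π x v ∈ wt σ l := by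
      intro x l v hv z
      have h1 : π (z : P) (π x v) = π x (π z v) := z.2 x v
      change π (z : P) (π x v) = _
      rw [h1]
      have h2 : π (z : P) v = l z • v := hv z
      rw [h2, map_smul]
    -- a weight on which `c` is not trivial
    obtain ⟨l, w, hw, hcw⟩ : ∃ (l : Z → k) (w : V), w ∈ wt σ l ∧ π c w ≠ w := by
      by_contra hcon
      push Not at hcon
      have h1 : (⨆ l, wt σ l) ≤ (π c).eqLocus LinearMap.id := iSup_le fun l w hw => hcon l w hw
      rw [htop] at h1
      exact hv₀ (h1 (Submodule.mem_top (x := v₀)))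
    -- it is a proper subspace
    have hWne : wt σ l ≠ ⊤ := by
      intro htl
      have hZker : ∀ z ∈ Z, ∀ v, π z v = v := by
        intro z hz v
        refine hS z (l ⟨z, hz⟩) ⊤ (fun _ _ _ _ => Submodule.mem_top) ?_ v Submodule.mem_top
        intro u _
        have hu : u ∈ wt σ l := by rw [htl]; exact Submodule.mem_top
        exact hu ⟨z, hz⟩
      by_cases hker : π.ker = ⊤
      · have : c ∈ π.ker := by rw [hker]; exact Subgroup.mem_top c
        rw [MonoidHom.mem_ker] at this
        exact hv₀ (by rw [this]; rfl)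
      · have hnt : Nontrivial (P ⧸ π.ker) := QuotientGroup.nontrivial_iff.2 hker
        have hq : IsPGroup p (P ⧸ π.ker) := hP.to_quotient _
        have hcn := hq.center_nontrivial
        obtain ⟨⟨y, hy⟩, hy1⟩ := exists_ne (1 : Subgroup.center (P ⧸ π.ker))
        obtain ⟨x, rfl⟩ := QuotientGroup.mk_surjective y
        have hxZ : x ∈ Z := by
          intro x' v
          have h1 := (Subgroup.mem_center_iff.1 hy) (x' : P ⧸ π.ker)
          rw [← QuotientGroup.mk_mul, ← QuotientGroup.mk_mul, QuotientGroup.eq, MonoidHom.mem_ker] at h1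
          have h2 : π (x * x') = π (x' * x) := by
            have h3 : x * x' = (x' * x) * ((x' * x)⁻¹ * (x * x')) := by group
            rw [h3, map_mul π (x' * x), h1, mul_one]
          rw [← Module.End.mul_apply, ← Module.End.mul_apply, ← map_mul, ← map_mul, h2]
        apply hy1
        apply Subtype.ext
        change (x : P ⧸ π.ker) = 1
        rw [QuotientGroup.eq_one_iff, MonoidHom.mem_ker]
        exact LinearMap.ext fun v => hZker x hxZ v
    have hfr : finrank k (wt σ l) ≤ n := by
      have := Submodule.finrank_lt hWne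
      omega
    -- the stabiliser in `H` is not trivial
    have hcmp : ∀ {i : Z → k} {w : V}, w ∈ wt σ i → (∀ h ∈ H, h • i = i → ρ h w = w) → π c w = w :=
      fun hw hfix => compare (wt σ) hind ρ hW H (π c) (hPW c) hc hw hfix
    obtain ⟨h₁, hh₁, h₁l, h₁1⟩ : ∃ h₁ ∈ H, h₁ • l = l ∧ h₁ ≠ 1 := by
      by_contra hcon
      push Not at hcon
      refine hcw (hcmp hw ?_)
      intro h hh hl
      rw [hcon h hh hl, map_one, Module.End.one_apply]
    -- the new data
    let A' := MulAction.stabilizer A l
    have hA' : ∀ a : A', (a : A) • l = l := fun a => a.2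
    have hFH' : IsFH (F.subgroupOf A') (H.subgroupOf A') := by
      refine ⟨inferInstance, ?_, ?_, ?_, ?_⟩
      · rw [eq_top_iff]
        intro a _
        obtain ⟨f, hf, h, hh, hafh, hfl, hhl⟩ := hFH.stab hh₁ h₁1 h₁l a.2
        have : a = (⟨f, hfl⟩ : A') * ⟨h, hhl⟩ := Subtype.ext hafh
        rw [this]
        exact Subgroup.mul_mem_sup (Subgroup.mem_subgroupOf.2 hf) (Subgroup.mem_subgroupOf.2 hh)
      · intro h hh h1 f hf hfh
        have := hFH.frob h hh (fun h0 => h1 (Subtype.ext h0)) f hf (congrArg Subtype.val hfh)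
        exact Subtype.ext this
      · refine Nat.Coprime.coprime_dvd_left ?_ (Nat.Coprime.coprime_dvd_right ?_ hFH.cop)
        · rw [← Subgroup.inf_subgroupOf_right F A', Nat.card_congr (Subgroup.subgroupOfEquivOfLe inf_le_right).toEquiv]
          exact Subgroup.card_dvd_of_le inf_le_left
        · rw [← Subgroup.inf_subgroupOf_right H A', Nat.card_congr (Subgroup.subgroupOfEquivOfLe inf_le_right).toEquiv]
          exact Subgroup.card_dvd_of_le inf_le_left
      · have := hFH.sol
        exact Group.isSolvable_of_isSolvable_injective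
          (f := (A'.subtype.comp (F.subgroupOf A').subtype).codRestrict F (fun x => x.2))
          (fun x y hxy => Subtype.ext (Subtype.ext (congrArg (fun z : F => (z : A)) hxy)))
    let C : Subgroup P :=
      { carrier := {x | ∀ f ∈ F, f • l ≠ l → ∀ v ∈ wt σ (f • l), π x v = v}
        mul_mem' := by
          intro a b ha hb f hf hfl v hv
          rw [map_mul, Module.End.mul_apply, hb f hf hfl v hv, ha f hf hfl v hv]
        one_mem' := by intro f hf hfl v hv; simp only [_root_.map_one, _root_.Module.End.one_apply]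
        inv_mem' := by
          intro a ha f hf hfl v hv
          have h1 := ha f hf hfl v hv
          have h2 := congrArg (π a⁻¹) h1
          rw [hπinv'] at h2
          exact h2.symm }
    have hCA : ∀ a : A', ∀ x ∈ C, (a : A) • x ∈ C := by
      intro a x hx f hf hfl v hv
      rw [hπ]
      have h1 : ρ (a : A)⁻¹ v ∈ wt σ (((a : A)⁻¹ * f * a) • l) := by
        have h2 := hW (a : A)⁻¹ _ v hv
        rwa [← mul_smul, ← hA' a, ← mul_smul] at h2
      have h3 : ((a : A)⁻¹ * f * a) • l ≠ l := by
        intro h4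
        apply hfl
        rw [mul_smul, mul_smul, hA' a, inv_smul_eq_iff, hA' a] at h4
        exact h4
      have h5 : (a : A)⁻¹ * f * a ∈ F := by simpa only [_root_.inv_inv] using hFn.conj_mem f hf (a : A)⁻¹
      rw [hx _ h5 h3 _ h1, hρinv]
    let _ : MulDistribMulAction A' C :=
      { smul := fun a x => ⟨(a : A) • (x : P), hCA a x x.2⟩
        one_smul := fun x => Subtype.ext (one_smul A (x : P))
        mul_smul := fun a b x => Subtype.ext (mul_smul (a : A) (b : A) (x : P))
        smul_mul := fun a x y => Subtype.ext (smul_mul' (a : A) (x : P) (y : P))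
        smul_one := fun a => Subtype.ext (smul_one (a : A)) }
    have hCact : ∀ (a : A') (x : C), ((a • x : C) : P) = (a : A) • (x : P) := fun _ _ => rfl
    have hρW : ∀ a : A', ∀ v ∈ wt σ l, ρ.comp A'.subtype a v ∈ wt σ l := by
      intro a v hv
      have := hW (a : A) l v hv
      rwa [hA' a] at this
    have hπW : ∀ x : C, ∀ v ∈ wt σ l, π.comp C.subtype x v ∈ wt σ l := fun x v hv => hPW x l v hv
    have hcC : c ∈ C := by
      intro f hf hfl v hv
      refine hcmp hv ?_
      intro h hh hhf
      rw [hFH.semiregular hh₁ h₁1 h₁l hf hfl hh hhf, map_one, Module.End.one_apply]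
    have hfin := ih (wt σ l) A' (F.subgroupOf A') (H.subgroupOf A') hFH' C (hP.to_subgroup C)
      (resHom (ρ.comp A'.subtype) (wt σ l) hρW) (resHom (π.comp C.subtype) (wt σ l) hπW)
      (fun a x v => Subtype.ext (hcompat (a : A) (x : P) (v : V))) ?_ ⟨c, hcC⟩ ?_ hfr ⟨w, hw⟩
    · exact hcw (congrArg Subtype.val hfin)
    · intro x μ U hU hUx
      -- the orbit of `l` under `F`
      have : Finite (MulAction.orbit F l) := (Set.finite_range (fun f : F => f • l)).to_subtype
      have := Fintype.ofFinite (MulAction.orbit F l)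
      have hex : ∀ j : MulAction.orbit F l, ∃ f : F, f • l = (j : Z → k) := fun j => j.2
      choose t ht using hex
      let y : P := ((Finset.univ : Finset (MulAction.orbit F l)).toList.map (fun j => (t j : A) • (x : P))).prod
      have hy : ∀ f ∈ F, ∀ u ∈ U, π y (ρ f (u : V)) = μ • ρ f (u : V) := by
        intro f hf u hu
        have hmem : f • l ∈ MulAction.orbit F l := ⟨⟨f, hf⟩, rfl⟩
        have h1 : ∀ j ∈ (Finset.univ : Finset (MulAction.orbit F l)).toList,
            π ((t j : A) • (x : P)) (ρ f (u : V)) =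
              (if j = ⟨f • l, hmem⟩ then μ else 1) • ρ f (u : V) := by
          intro j _
          have h2 : ρ f (u : V) = ρ (t j : A) (ρ ((t j : A)⁻¹ * f) (u : V)) := by
            rw [← Module.End.mul_apply, ← map_mul, mul_inv_cancel_left]
          have h3 : (t j : A)⁻¹ * f ∈ F := F.mul_mem (F.inv_mem (t j).2) hf
          have h4 : ρ ((t j : A)⁻¹ * f) (u : V) ∈ wt σ (((t j : A)⁻¹ * f) • l) := hW _ _ _ u.2
          by_cases hj : j = ⟨f • l, hmem⟩
          · rw [if_pos hj]
            have h5 : ((t j : A)⁻¹ * f) • l = l := by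
              rw [mul_smul, inv_smul_eq_iff]
              have h6 := ht j
              rw [hj] at h6 ⊢
              exact h6.symm
            have h6 := hU ⟨(t j : A)⁻¹ * f, h5⟩ h3 u hu
            have h7 := congrArg Subtype.val (hUx _ h6)
            change π (x : P) (ρ ((t j : A)⁻¹ * f) (u : V)) = μ • ρ ((t j : A)⁻¹ * f) (u : V) at h7
            rw [h2, ← hcompat, h7, map_smul]
          · rw [if_neg hj, one_smul]
            have h5 : ((t j : A)⁻¹ * f) • l ≠ l := by
              intro h6
              apply hj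
              rw [mul_smul, inv_smul_eq_iff] at h6
              apply Subtype.ext
              rw [← ht j]
              exact h6.symm
            rw [h2, ← hcompat, x.2 _ h3 h5 _ h4]
        have h8 := map_prod_smul π _ _ _ _ h1
        rw [Finset.prod_map_toList] at h8
        simpa only [_root_.Finset.prod_ite_eq', _root_.Finset.mem_univ, ↓ _root_.reduceIte] using h8
      have hx : ∀ u ∈ U, μ • (u : V) = u := by
        let U' : Submodule k V := ⨆ f : F, (U.map (wt σ l).subtype).map (ρ (f : A))
        have hUU' : ∀ u ∈ U, (u : V) ∈ U' := by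
          intro u hu
          refine Submodule.mem_iSup_of_mem 1 ⟨u, ⟨u, hu, rfl⟩, ?_⟩
          simp only [_root_.OneMemClass.coe_one, _root_.map_one, _root_.Module.End.one_apply]
        have h1 : ∀ u ∈ U', π y u = μ • u := by
          have h2 : U' ≤ (π y).eqLocus (μ • LinearMap.id) := by
            refine iSup_le fun f => ?_
            rintro _ ⟨_, ⟨u, hu, rfl⟩, rfl⟩
            exact hy f f.2 u hu
          exact fun u hu => h2 hu
        have h2 : ∀ f ∈ F, ∀ u ∈ U', ρ f u ∈ U' := by
          intro f hf u hu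
          have h3 : U' ≤ U'.comap (ρ f) := by
            refine iSup_le fun f' => ?_
            rintro _ ⟨_, ⟨u, hu, rfl⟩, rfl⟩
            rw [Submodule.mem_comap]
            refine Submodule.mem_iSup_of_mem ⟨f * f', F.mul_mem hf f'.2⟩ ⟨u, ⟨u, hu, rfl⟩, ?_⟩
            rw [map_mul, Module.End.mul_apply]
            rfl
          exact h3 hu
        intro u hu
        have h4 := hS y μ U' h2 h1 u (hUU' u hu)
        rw [h1 u (hUU' u hu)] at h4
        exact h4
      intro u hu
      rw [hUx u hu]
      exact Subtype.ext (hx u hu)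
    · rintro ⟨v, hv⟩ hfix
      refine Subtype.ext (hcmp hv ?_)
      intro h hh hhl
      exact congrArg Subtype.val (hfix ⟨h, hhl⟩ hh)

end Main

end Cfsg.Agent.H582
end

-- part: H582/CliffordField
section
/-!
# Faithful action on the fixed points of the complement, over an arbitrary field

* `trivial_field` : `A = FH` with `F` nilpotent acts on the `p`-group `P` with `C_P(F) = 1` and compatibly on `V` over
  a field of characteristic not `p`.  An element of `P` which is trivial on `C_V(H)` is trivial on `V`.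
-/

set_option autoImplicit false

namespace Cfsg.Agent.H582

open Module TensorProduct

section Scalar

variable {k V A P : Type*} [Field k] [AddCommGroup V] [Module k V] [Group A] [Finite A] [Group P] [Finite P]
  [MulDistribMulAction A P]

/-- If `F` is nilpotent and has no fixed points on the solvable group `P`, then no element of `P` acts as a scalar
`≠ 1` on an `F`-invariant subspace. -/
theorem eq_of_scalar (F : Subgroup A) (hnil : Group.IsNilpotent F) (hsol : Group.IsSolvable P)
    (hfix : ∀ x : P, (∀ f ∈ F, f • x = x) → x = 1) (ρ : A →* End k V) (π : P →* End k V)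
    (hcompat : ∀ a x v, ρ a (π x v) = π (a • x) (ρ a v)) (x : P) (μ : k) (U : Submodule k V)
    (hU : ∀ f ∈ F, ∀ u ∈ U, ρ f u ∈ U) (hx : ∀ u ∈ U, π x u = μ • u) : ∀ u ∈ U, π x u = u := by
  have hρinv : ∀ a v, ρ a (ρ a⁻¹ v) = v := by
    intro a v
    rw [← Module.End.mul_apply, ← map_mul, mul_inv_cancel, map_one, Module.End.one_apply]
  have hπ : ∀ a x v, π (a • x) v = ρ a (π x (ρ a⁻¹ v)) := by
    intro a x v
    rw [hcompat, hρinv]
  have hπinv' : ∀ a v, π a⁻¹ (π a v) = v := by
    intro a v
    rw [← Module.End.mul_apply, ← map_mul, inv_mul_cancel, map_one, Module.End.one_apply]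
  let N : Subgroup P :=
    { carrier := {x | ∀ u ∈ U, π x u = u}
      mul_mem' := by
        intro a b ha hb u hu
        rw [map_mul, Module.End.mul_apply, hb u hu, ha u hu]
      one_mem' := by intro u hu; simp only [_root_.map_one, _root_.Module.End.one_apply]
      inv_mem' := by
        intro a ha u hu
        have h2 := congrArg (π a⁻¹) (ha u hu)
        rw [hπinv'] at h2
        exact h2.symm }
  have hxN : x ∈ N := by
    refine mem_of_fixed_coset (F := F) hnil (fun g hg => hfix g fun f hf => hg ⟨f, hf⟩) N ?_ inferInstance x ?_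
    · intro f n hn u hu
      change π ((f : A) • n) u = u
      rw [hπ, hn _ (hU _ (F.inv_mem f.2) u hu), hρinv]
    · intro f u hu
      change π (x⁻¹ * (f : A) • x) u = u
      rw [map_mul, Module.End.mul_apply, hπ, hx _ (hU _ (F.inv_mem f.2) u hu), map_smul, hρinv, ← hx u hu, hπinv']
  exact hxN

end Scalar

section BaseChange

variable {K V : Type*} [Field K] [AddCommGroup V] [Module K V] (k : Type*) [Field k] [Algebra K k]

/-- Base change of a homomorphism to endomorphisms. -/
noncomputable def bcHom {G : Type*} [Group G] (ρ : G →* End K V) : G →* End k (k ⊗[K] V) where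
  toFun g := (ρ g).baseChange k
  map_one' := by
    rw [map_one]
    exact LinearMap.baseChange_id
  map_mul' a b := by
    rw [map_mul]
    exact LinearMap.baseChange_comp _ _

theorem bcHom_tmul {G : Type*} [Group G] (ρ : G →* End K V) (g : G) (x : k) (v : V) :
    bcHom k ρ g (x ⊗ₜ[K] v) = x ⊗ₜ[K] (ρ g v) := rfl

theorem bcHom_coord {ι : Type*} [DecidableEq ι] (b : Basis ι K k) {G : Type*} [Group G] (ρ : G →* End K V) (g : G)
    (t : k ⊗[K] V) (i : ι) : TensorProduct.equivFinsuppOfBasisLeft b (bcHom k ρ g t) i =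
      ρ g (TensorProduct.equivFinsuppOfBasisLeft b t i) := by
  induction t using TensorProduct.induction_on with
  | zero => simp
  | tmul y v =>
    rw [bcHom_tmul]
    simp only [_root_.TensorProduct.equivFinsuppOfBasisLeft_apply_tmul, _root_.Finsupp.mapRange_apply, _root_.map_smul]
  | add s t hs ht => simp only [map_add, Finsupp.add_apply, hs, ht]

end BaseChange

universe u v w w'

theorem trivial_field {K : Type u} [Field K] {p : ℕ} [Fact p.Prime] (hpK : (p : K) ≠ 0) (V : Type v)
    [AddCommGroup V] [Module K V] [FiniteDimensional K V] (A : Type w) [Group A] [Finite A]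
    (F H : Subgroup A) (hFH : IsFH F H) (hnil : Group.IsNilpotent F) (P : Type w') [Group P] [Finite P]
    [MulDistribMulAction A P] (hP : IsPGroup p P) (hfix : ∀ x : P, (∀ f ∈ F, f • x = x) → x = 1)
    (ρ : A →* End K V) (π : P →* End K V) (hcompat : ∀ a x v, ρ a (π x v) = π (a • x) (ρ a v)) (c : P)
    (hc : ∀ v, (∀ h ∈ H, ρ h v = v) → π c v = v) : ∀ v, π c v = v := by
  classical
  let k := AlgebraicClosure K
  have hpk : (p : k) ≠ 0 := by
    rw [← map_natCast (algebraMap K k) p]
    exact (map_ne_zero _).2 hpK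
  have hPn : Group.IsNilpotent P := hP.isNilpotent
  have hsol : Group.IsSolvable P := inferInstance
  have hcompat' : ∀ a x v, bcHom k ρ a (bcHom k π x v) = bcHom k π (a • x) (bcHom k ρ a v) := by
    intro a x v
    induction v using TensorProduct.induction_on with
    | zero => simp only [_root_.map_zero]
    | tmul y v => rw [bcHom_tmul, bcHom_tmul, bcHom_tmul, bcHom_tmul, hcompat]
    | add s t hs ht => simp only [map_add, hs, ht]
  -- coordinates with respect to a basis of `k` over `K`
  let b := Module.Free.chooseBasis K k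
  let e := TensorProduct.equivFinsuppOfBasisLeft (N := V) b
  have hfin := trivial_of_trivial_on_fixed (k := k) hpk (finrank k (k ⊗[K] V)) (k ⊗[K] V) A F H hFH P hP
    (bcHom k ρ) (bcHom k π) hcompat'
    (fun x μ U hU hx => eq_of_scalar F hnil hsol hfix (bcHom k ρ) (bcHom k π) hcompat' x μ U hU hx) c
    (fun t ht => e.injective (Finsupp.ext fun i => by
      rw [bcHom_coord]
      refine hc _ fun h hh => ?_
      rw [← bcHom_coord, ht h hh])) le_rfl
  intro v
  have h1 := hfin (1 ⊗ₜ[K] v)
  rw [bcHom_tmul] at h1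
  exact Module.FaithfullyFlat.tensorProduct_mk_injective (A := K) (B := k) V h1

end Cfsg.Agent.H582
end

-- part: H582/Elem
section
/-!
# Frobenius groups of automorphisms: elementary abelian normal subgroups

`IsFrob F H` : `A = FH`, `F` a nilpotent normal subgroup of order prime to that of `H`, the non-identity elements of `H`
acting on `F` without fixed points.  `A` acts on the finite group `G` (not necessarily faithfully), `V` is an
`A`-invariant normal elementary abelian subgroup of `G`.

* `isFrob_of_complement` : Frobenius groups;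
* `lift_elemAb` : fixed points of `H` on `G / V` lift if `C_V(F) = 1`;
* `eq_one_elemAb` : `C_V(F) = 1 = C_V(H)` implies `V = 1`;
* `trivial_on_elemAb` : an element of an `A`-invariant `p`-subgroup of `G / V` centralising `C_V(H)` centralises `V`.
-/

set_option autoImplicit false

namespace Cfsg.Agent.H582

open Cfsg.Agent.H583.FreeOp

/-- `A = FH`, `F` nilpotent and normal, of order prime to that of `H`, the non-identity elements of `H` acting on `F`
without fixed points (`H = 1` and `F = 1` are allowed). -/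
structure IsFrob {A : Type*} [Group A] (F H : Subgroup A) : Prop extends IsFH F H where
  nil : Group.IsNilpotent F

theorem isFrob_of_complement {A : Type*} [Group A] [Finite A] (Fk Hc : Subgroup A) [hN : Fk.Normal]
    (hHc : Cfsg.IsFrobeniusComplement Hc) (hker : Cfsg.frobeniusKernel Hc = (Fk : Set A)) : IsFrob Fk Hc := by
  have hnil : Group.IsNilpotent Fk := by
    obtain ⟨N, hN1, -, hN3⟩ := Cfsg.Agent.S0042.result Hc hHc
    have : N = Fk := SetLike.coe_injective (by rw [hN1, hker])
    rwa [this] at hN3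
  have hcard : Nat.card Fk = Hc.index := by
    rw [← Cfsg.Agent.Solvable.FrobeniusKernel.card_kernel hHc, hker]; rfl
  refine ⟨⟨hN, ?_, ?_, ?_, inferInstance⟩, hnil⟩
  · have hinf : Fk ⊓ Hc = ⊥ := by
      rw [eq_bot_iff]
      intro x hx
      have h1 : x ∈ Cfsg.frobeniusKernel Hc := by rw [hker]; exact hx.1
      exact Subgroup.mem_bot.2 (Cfsg.Agent.Solvable.FrobeniusKernel.eq_one_of_mem_kernel_of_mem h1 hx.2)
    have hc : Subgroup.IsComplement' Fk Hc := by
      refine Subgroup.isComplement'_of_card_mul_and_disjoint ?_ (disjoint_iff.2 hinf)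
      rw [hcard, mul_comm, Subgroup.card_mul_index]
    exact hc.sup_eq_top
  · intro h hh h1 f hf hfh
    have h2 : f ∈ Hc := Cfsg.Agent.Solvable.FrobeniusKernel.centralizer_le hHc hh h1
      (Subgroup.mem_centralizer_singleton_iff.2 hfh.symm)
    have h3 : f ∈ Cfsg.frobeniusKernel Hc := by rw [hker]; exact hf
    exact Cfsg.Agent.Solvable.FrobeniusKernel.eq_one_of_mem_kernel_of_mem h3 h2
  · rw [hcard]
    exact Cfsg.Agent.Solvable.FrobeniusKernel.coprime_index_card hHc

section Elem

variable {A G : Type*} [Group A] [Finite A] [Group G] [Finite G] [MulDistribMulAction A G] {F H : Subgroup A}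

/-- `F` has no fixed points on the quotient by a solvable invariant normal subgroup. -/
theorem fpf_quot (hA : IsFrob F H) (hfix : ∀ g : G, (∀ f ∈ F, f • g = g) → g = 1) (N : Subgroup G)
    (hN : ∀ (a : A) (n : G), n ∈ N → a • n ∈ N) (hsol : Group.IsSolvable N) (g : G)
    (hg : ∀ f ∈ F, g⁻¹ * f • g ∈ N) : g ∈ N :=
  mem_of_fixed_coset (F := F) hA.nil (fun g h => hfix g fun f hf => h ⟨f, hf⟩) N (fun f n hn => hN f n hn) hsol g
    (fun f => hg f f.2)

omit [Finite G] in
theorem lift_elemAb (hA : IsFrob F H) (V : Subgroup G) (hVA : ∀ (a : A) (n : G), n ∈ V → a • n ∈ V)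
    {q : ℕ} [Fact q.Prime] (hVc : ∀ x ∈ V, ∀ y ∈ V, x * y = y * x) (hVq : ∀ x ∈ V, x ^ q = 1)
    (hfix : ∀ v ∈ V, (∀ f ∈ F, f • v = v) → v = 1) (g : G) (hg : ∀ h ∈ H, g⁻¹ * h • g ∈ V) :
    ∃ v ∈ V, ∀ h ∈ H, h • (g * v) = g * v := by
  classical
  have hFn := hA.normal
  have := Fintype.ofFinite H
  let _ : CommGroup V := { (inferInstance : Group V) with mul_comm := fun x y => Subtype.ext (hVc x x.2 y y.2) }
  let _ : MulDistribMulAction A V := subAct V hVA
  let _ : Module (ZMod q) (Additive V) := AddCommGroup.zmodModule (n := q) (fun x =>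
    congrArg Additive.ofMul (Subtype.ext (hVq _ (Additive.toMul x).2) : (Additive.toMul x) ^ q = 1))
  let ρ : A →* Module.End (ZMod q) (Additive V) := (autToEnd q V).comp (MulDistribMulAction.toMulAut A V)
  have hρ : ∀ (a : A) (v : V), ρ a (Additive.ofMul v) = Additive.ofMul (a • v) := fun _ _ => rfl
  have hfree := hfree_of_fpf ρ F H hA.frob hA.nil (by
    intro v hv
    have := hfix (Additive.toMul v : V) (Additive.toMul v).2 (fun f hf => congrArg Subtype.val (congrArg Additive.toMul (hv f hf)))
    exact congrArg Additive.ofMul (Subtype.ext this : Additive.toMul v = 1))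
  obtain ⟨u, hu⟩ := coboundary (ρ.comp H.subtype) hfree (fun h => Additive.ofMul ⟨g⁻¹ * (h : A) • g, hg h h.2⟩) (by
    intro a b
    change Additive.ofMul (_ : V) = Additive.ofMul (_ : V)
    congr 1
    apply Subtype.ext
    change g⁻¹ * ((a * b : H) : A) • g = (g⁻¹ * (a : A) • g) * (a : A) • (g⁻¹ * (b : A) • g)
    rw [Subgroup.coe_mul, mul_smul, smul_mul', smul_inv']
    group)
  refine ⟨(Additive.toMul u : V), (Additive.toMul u).2, fun h hh => ?_⟩
  have h1 := congrArg (fun x => ((Additive.toMul x : V) : G)) (hu ⟨h, hh⟩)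
  have h2 : g⁻¹ * h • g = ((Additive.toMul u : V) : G) * (h • ((Additive.toMul u : V) : G))⁻¹ := by
    rw [← div_eq_mul_inv]
    exact h1
  rw [smul_mul']
  have h4 : h • g = g * (g⁻¹ * h • g) := by group
  rw [h4, h2]; group

omit [Finite G] in
theorem eq_one_elemAb (hA : IsFrob F H) (V : Subgroup G) (hVA : ∀ (a : A) (n : G), n ∈ V → a • n ∈ V)
    {q : ℕ} [Fact q.Prime] (hVc : ∀ x ∈ V, ∀ y ∈ V, x * y = y * x) (hVq : ∀ x ∈ V, x ^ q = 1)
    (hfix : ∀ v ∈ V, (∀ f ∈ F, f • v = v) → v = 1) (hH : ∀ v ∈ V, (∀ h ∈ H, h • v = v) → v = 1) (v : G)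
    (hv : v ∈ V) : v = 1 := by
  classical
  have hFn := hA.normal
  have := Fintype.ofFinite H
  let _ : CommGroup V := { (inferInstance : Group V) with mul_comm := fun x y => Subtype.ext (hVc x x.2 y y.2) }
  let _ : MulDistribMulAction A V := subAct V hVA
  let _ : Module (ZMod q) (Additive V) := AddCommGroup.zmodModule (n := q) (fun x =>
    congrArg Additive.ofMul (Subtype.ext (hVq _ (Additive.toMul x).2) : (Additive.toMul x) ^ q = 1))
  let ρ : A →* Module.End (ZMod q) (Additive V) := (autToEnd q V).comp (MulDistribMulAction.toMulAut A V)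
  have hfree := hfree_of_fpf ρ F H hA.frob hA.nil (by
    intro v hv
    have := hfix (Additive.toMul v : V) (Additive.toMul v).2 (fun f hf => congrArg Subtype.val (congrArg Additive.toMul (hv f hf)))
    exact congrArg Additive.ofMul (Subtype.ext this : Additive.toMul v = 1))
  have h1 := eq_zero_of_free (ρ.comp H.subtype) hfree (by
    intro v hv
    have := hH (Additive.toMul v : V) (Additive.toMul v).2 (fun f hf => congrArg Subtype.val (congrArg Additive.toMul (hv ⟨f, hf⟩)))
    exact congrArg Additive.ofMul (Subtype.ext this : Additive.toMul v = 1)) (Additive.ofMul ⟨v, hv⟩)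
  exact congrArg Subtype.val (congrArg Additive.toMul h1)

theorem trivial_on_elemAb (hA : IsFrob F H) {p q : ℕ} [Fact p.Prime] [hq : Fact q.Prime] (hpq : p ≠ q)
    (hfix : ∀ g : G, (∀ f ∈ F, f • g = g) → g = 1)
    (V : Subgroup G) [V.Normal] (hVA : ∀ (a : A) (n : G), n ∈ V → a • n ∈ V)
    (hVc : ∀ x ∈ V, ∀ y ∈ V, x * y = y * x) (hVq : ∀ x ∈ V, x ^ q = 1)
    (K : Subgroup (G ⧸ V)) (hK : IsPGroup p K) (hKA : ∀ (a : A) (g : G), (g : G ⧸ V) ∈ K → ((a • g : G) : G ⧸ V) ∈ K)
    (d : G) (hd : (d : G ⧸ V) ∈ K) (hdc : ∀ v ∈ V, (∀ h ∈ H, h • v = v) → d * v * d⁻¹ = v) :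
    ∀ v ∈ V, d * v * d⁻¹ = v := by
  classical
  have hFn := hA.normal
  let _ : CommGroup V := { (inferInstance : Group V) with mul_comm := fun x y => Subtype.ext (hVc x x.2 y y.2) }
  let _ : MulDistribMulAction A V := subAct V hVA
  let _ : Module (ZMod q) (Additive V) := AddCommGroup.zmodModule (n := q) (fun x =>
    congrArg Additive.ofMul (Subtype.ext (hVq _ (Additive.toMul x).2) : (Additive.toMul x) ^ q = 1))
  let ρ : A →* Module.End (ZMod q) (Additive V) := (autToEnd q V).comp (MulDistribMulAction.toMulAut A V)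
  have hsolV : Group.IsSolvable V := Group.isSolvable_of_comm mul_comm
  let _ : MulDistribMulAction A (G ⧸ V) := quotAct V hVA
  have hKA' : ∀ (a : A) (x : G ⧸ V), x ∈ K → a • x ∈ K := by
    intro a x hx
    induction x using QuotientGroup.induction_on with
    | H g => exact hKA a g hx
  let _ : MulDistribMulAction A K := subAct K hKA'
  -- the action of `G / V` on `V`
  let π₀ : G ⧸ V →* MulAut V := QuotientGroup.lift V MulAut.conjNormal (by
    intro x hx
    ext v
    rw [MulAut.conjNormal_apply, hVc x hx v v.2]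
    simp)
  have hπ₀ : ∀ (g : G) (v : V), ((π₀ (g : G ⧸ V) v : V) : G) = g * v * g⁻¹ := by
    intro g v
    change ((MulAut.conjNormal g v : V) : G) = _
    exact MulAut.conjNormal_apply g v
  let π : K →* Module.End (ZMod q) (Additive V) := (autToEnd q V).comp (π₀.comp K.subtype)
  have hfixK : ∀ x : K, (∀ f ∈ F, f • x = x) → x = 1 := by
    rintro ⟨x, hx⟩ h
    induction x using QuotientGroup.induction_on with
    | H g =>
      apply Subtype.ext
      change ((g : G) : G ⧸ V) = 1
      rw [QuotientGroup.eq_one_iff]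
      refine fpf_quot hA hfix V hVA hsolV g fun f hf => ?_
      have h1 : ((f • g : G) : G ⧸ V) = (g : G ⧸ V) := congrArg Subtype.val (h f hf)
      rw [← QuotientGroup.eq, h1]
  have hcompat : ∀ (a : A) (x : K) (v : Additive V), ρ a (π x v) = π (a • x) (ρ a v) := by
    rintro a ⟨x, hx⟩ v
    induction x using QuotientGroup.induction_on with
    | H g =>
      have h1 : a • (π₀ (g : G ⧸ V) (Additive.toMul v)) = π₀ ((a • g : G) : G ⧸ V) (a • (Additive.toMul v : V)) := by
        apply Subtype.ext
        have h2 : ((a • (π₀ (g : G ⧸ V) (Additive.toMul v)) : V) : G) = a • ((π₀ (g : G ⧸ V) (Additive.toMul v) : V) : G) := rfl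
        have h3 : ((a • (Additive.toMul v : V) : V) : G) = a • ((Additive.toMul v : V) : G) := rfl
        rw [h2, hπ₀, hπ₀, h3, smul_mul', smul_mul', smul_inv']
      exact congrArg Additive.ofMul h1
  have hpK : ((p : ℕ) : ZMod q) ≠ 0 := by
    rw [Ne, ZMod.natCast_eq_zero_iff]
    intro h
    exact hpq ((Nat.prime_dvd_prime_iff_eq hq.out Fact.out).1 h).symm
  have hfin := trivial_field hpK (Additive V) A F H hA.toIsFH hA.nil K hK hfixK ρ π hcompat ⟨d, hd⟩ (by
    intro v hv
    have h1 := hdc (Additive.toMul v : V) (Additive.toMul v).2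
      (fun h hh => congrArg Subtype.val (congrArg Additive.toMul (hv h hh)))
    have h2 : π₀ (d : G ⧸ V) (Additive.toMul v) = Additive.toMul v := Subtype.ext (by rw [hπ₀, h1])
    exact congrArg Additive.ofMul h2)
  intro v hv
  have h1 := congrArg (fun x => ((Additive.toMul x : V) : G)) (hfin (Additive.ofMul ⟨v, hv⟩))
  have h2 : ((π₀ (d : G ⧸ V) ⟨v, hv⟩ : V) : G) = v := h1
  rwa [hπ₀] at h2

end Elem

end Cfsg.Agent.H582
end

-- part: H582/Main
section
/-!
# Frobenius groups of automorphisms: the `p`-core of the fixed points of the complement (E. I. Khukhro)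

`IsFrob F H`, `A = FH` acts on the finite solvable group `G` and `F` has no fixed points (neither faithfulness of the
action nor coprimeness is assumed).

* `le_pCore` : a `p`-subgroup of `C = C_G(H)` normalised by `C` lies in `O_p(G)`;
* `lift` : fixed points of `H` on `G / N` lift to `G`;
* `eq_one` : `C_G(H) = 1` implies `G = 1`.
-/

set_option autoImplicit false

namespace Cfsg.Agent.H582

open Subgroup Cfsg

universe u w

/-- A `p`-subgroup of the Fitting subgroup lies in `O_p`. -/
theorem le_pCore_of_le_fitting {G : Type*} [Group G] [Finite G] {p : ℕ} [Fact p.Prime] {D : Subgroup G}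
    (hD : IsPGroup p D) (h : D ≤ fittingSubgroup G) : D ≤ pCore p G := by
  have hnil := Lib.Cores.fittingSubgroup_isNilpotent (G := G)
  have hD' : IsPGroup p (D.subgroupOf (fittingSubgroup G)) := hD.comap_subtype
  obtain ⟨P, hP⟩ := hD'.exists_le_sylow
  have hPn : P.Normal := inferInstance
  have hPc : (P : Subgroup (fittingSubgroup G)).Characteristic := Sylow.characteristic_of_normal P inferInstance
  have hFn : (fittingSubgroup G).Normal := Lib.Cores.fittingSubgroup_normal
  have h1 : (P : Subgroup (fittingSubgroup G)).map (fittingSubgroup G).subtype ≤ pCore p G :=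
    Lib.Cores.le_pCore inferInstance (P.isPGroup'.map _)
  intro x hx
  exact h1 ⟨⟨x, h hx⟩, hP hx, rfl⟩

/-- A `p`-subgroup `D` centralising the normal abelian subgroup `V`, with image in `O_p(G / V)`, lies in `O_p(G)`. -/
theorem le_pCore_of_centralizer {G : Type*} [Group G] [Finite G] {p : ℕ} [Fact p.Prime] {D : Subgroup G}
    (hD : IsPGroup p D) (V : Subgroup G) [V.Normal]
    (h1 : D ≤ (pCore p (G ⧸ V)).comap (QuotientGroup.mk' V)) (h2 : ∀ d ∈ D, ∀ v ∈ V, d * v * d⁻¹ = v) :
    D ≤ pCore p G := by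
  have hn : (pCore p (G ⧸ V)).Normal := Lib.Cores.pCore_normal p
  have hcn : (Subgroup.centralizer (V : Set G)).Normal := inferInstance
  set L : Subgroup G := (pCore p (G ⧸ V)).comap (QuotientGroup.mk' V) ⊓ Subgroup.centralizer (V : Set G) with hL
  have hLn : L.Normal := inferInstance
  have hDL : D ≤ L := le_inf h1 (fun d hd => Subgroup.mem_centralizer_iff.2 fun v hv => by
    have := h2 d hd v hv
    rw [mul_inv_eq_iff_eq_mul] at this
    exact this.symm)
  have hnil : Group.IsNilpotent L := by
    let f : L →* pCore p (G ⧸ V) := ((QuotientGroup.mk' V).comp L.subtype).codRestrict _ (fun x => x.2.1)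
    have hpn : Group.IsNilpotent (pCore p (G ⧸ V)) := (Lib.Cores.pCore_isPGroup p).isNilpotent
    refine Subgroup.isNilpotent_of_ker_le_center f ?_
    intro x hx
    have hxV : (x : G) ∈ V := by
      rw [← QuotientGroup.eq_one_iff]
      exact congrArg Subtype.val (MonoidHom.mem_ker.1 hx)
    rw [Subgroup.mem_center_iff]
    intro y
    apply Subtype.ext
    exact ((Subgroup.mem_centralizer_iff.1 y.2.2) x hxV).symm
  exact le_pCore_of_le_fitting hD (hDL.trans (Lib.Cores.le_fittingSubgroup hLn hnil))

section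

variable {A : Type w} [Group A] {F H : Subgroup A}

/-- A characteristic subgroup is invariant under the acting group. -/
theorem smul_mem_of_char {G : Type*} [Group G] [MulDistribMulAction A G] (V : Subgroup G) (hV : V.Characteristic)
    (a : A) (v : G) (hv : v ∈ V) : a • v ∈ V :=
  (Subgroup.characteristic_iff_le_comap.1 hV) (MulDistribMulAction.toMulEquiv G a) hv

theorem le_pCore_aux [Finite A] (hA : IsFrob F H) (p : ℕ) [Fact p.Prime] :
    ∀ (n : ℕ) (G : Type u) [Group G] [Finite G] [MulDistribMulAction A G] (_ : Group.IsSolvable G)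
      (_ : ∀ g : G, (∀ f ∈ F, f • g = g) → g = 1) (D : Subgroup G) (_ : IsPGroup p D)
      (_ : ∀ d ∈ D, ∀ h ∈ H, h • d = d) (_ : ∀ x : G, (∀ h ∈ H, h • x = x) → ∀ d ∈ D, x * d * x⁻¹ ∈ D),
      Nat.card G ≤ n → D ≤ pCore p G := by
  intro n
  induction n with
  | zero =>
    intro G _ _ _ _ _ D _ _ _ hn
    exact absurd hn (by have := Nat.card_pos (α := G); omega)
  | succ n ih =>
    intro G _ _ _ hsol hfix D hD hDH hDn hn
    rcases subsingleton_or_nontrivial G with hG | hG
    · intro x _
      rw [Subsingleton.elim x 1]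
      exact one_mem _
    obtain ⟨q, hq, -, V, hVchar, hVbot, hVc, hVq⟩ := exists_char_elemAb G hsol
    have : Fact q.Prime := ⟨hq⟩
    have hVA : ∀ (a : A) (v : G), v ∈ V → a • v ∈ V := smul_mem_of_char V hVchar
    have hsolV : Group.IsSolvable V := inferInstance
    have hlift : ∀ g : G, (∀ h ∈ H, g⁻¹ * h • g ∈ V) → ∃ v ∈ V, ∀ h ∈ H, h • (g * v) = g * v := fun g hg =>
      lift_elemAb hA V hVA hVc hVq (fun v _ h => hfix v h) g hg
    have hquot := fpf_quot hA hfix V hVA hsolV
    have hcard : Nat.card (G ⧸ V) ≤ n := by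
      have h1 := Subgroup.card_mul_index V
      rw [Subgroup.index] at h1
      have h2 : 1 < Nat.card V := by
        rw [Subgroup.one_lt_card_iff_ne_bot]
        exact hVbot
      have h3 : 0 < Nat.card (G ⧸ V) := Nat.card_pos
      nlinarith
    let _ : MulDistribMulAction A (G ⧸ V) := quotAct V hVA
    have hact : ∀ (a : A) (g : G), a • (g : G ⧸ V) = ((a • g : G) : G ⧸ V) := fun _ _ => rfl
    have hDbar : D.map (QuotientGroup.mk' V) ≤ pCore p (G ⧸ V) := by
      refine ih (G ⧸ V) inferInstance ?_ (D.map (QuotientGroup.mk' V)) (hD.map _) ?_ ?_ hcard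
      · intro x hx
        induction x using QuotientGroup.induction_on with
        | H g =>
          rw [QuotientGroup.eq_one_iff]
          refine hquot g fun f hf => ?_
          rw [← QuotientGroup.eq, ← hact, hx f hf]
      · rintro _ ⟨d, hd, rfl⟩ h hh
        change h • (d : G ⧸ V) = d
        rw [hact, hDH d hd h hh]
      · intro x hx
        induction x using QuotientGroup.induction_on with
        | H g =>
          rintro _ ⟨d, hd, rfl⟩
          obtain ⟨v, hv, hgv⟩ := hlift g (fun h hh => by rw [← QuotientGroup.eq, ← hact, hx h hh])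
          refine ⟨(g * v) * d * (g * v)⁻¹, hDn _ hgv d hd, ?_⟩
          have h1 : ((g * v : G) : G ⧸ V) = g := by
            rw [QuotientGroup.mk_mul, (QuotientGroup.eq_one_iff v).2 hv, mul_one]
          change (((g * v) * d * (g * v)⁻¹ : G) : G ⧸ V) = (g : G ⧸ V) * (d : G ⧸ V) * (g : G ⧸ V)⁻¹
          rw [QuotientGroup.mk_mul, QuotientGroup.mk_mul, QuotientGroup.mk_inv, h1]
    have hDK : D ≤ (pCore p (G ⧸ V)).comap (QuotientGroup.mk' V) := Subgroup.map_le_iff_le_comap.1 hDbar
    by_cases hpq : p = q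
    · subst hpq
      have hVp : IsPGroup p V := fun v => ⟨1, by
        rw [pow_one]
        exact Subtype.ext (hVq v v.2)⟩
      rw [Lib.Cores.comap_mk_pCore p hVp] at hDK
      exact hDK
    · refine le_pCore_of_centralizer hD V hDK fun d hd => ?_
      have hcharK : (pCore p (G ⧸ V)).Characteristic := Lib.Cores.pCore_characteristic p
      refine trivial_on_elemAb hA hpq hfix V hVA hVc hVq (pCore p (G ⧸ V)) (Lib.Cores.pCore_isPGroup p) ?_ d
        (hDK hd) ?_
      · intro a g hg
        rw [← hact]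
        exact smul_mem_of_char _ hcharK a _ hg
      · intro v hv hvH
        -- `v d v⁻¹ d⁻¹ ∈ D ∩ V = 1`
        have h1 : v * d * v⁻¹ * d⁻¹ ∈ D := D.mul_mem (hDn v hvH d hd) (D.inv_mem hd)
        have h2 : v * d * v⁻¹ * d⁻¹ ∈ V := by
          have h3 : d * v⁻¹ * d⁻¹ ∈ V := Subgroup.Normal.conj_mem inferInstance _ (V.inv_mem hv) d
          have h4 : v * d * v⁻¹ * d⁻¹ = v * (d * v⁻¹ * d⁻¹) := by group
          rw [h4]
          exact V.mul_mem hv h3
        have h5 : v * d * v⁻¹ * d⁻¹ = 1 := by
          obtain ⟨k, hk⟩ := hD ⟨_, h1⟩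
          have h6 : (v * d * v⁻¹ * d⁻¹) ^ p ^ k = 1 := congrArg Subtype.val hk
          have h7 := hVq _ h2
          have h8 : Nat.Coprime (p ^ k) q :=
            Nat.Coprime.pow_left k ((Nat.coprime_primes Fact.out hq).2 hpq)
          have h9 := pow_gcd_eq_one.2 ⟨h6, h7⟩
          rw [h8.gcd_eq_one, pow_one] at h9
          exact h9
        have h6 : v * d = d * v := by
          rw [mul_inv_eq_one, mul_inv_eq_iff_eq_mul] at h5
          exact h5
        rw [← h6]; group

/-- **The `p`-core of the fixed points**: a `p`-subgroup of `C_G(H)` normalised by `C_G(H)` lies in `O_p(G)`. -/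
theorem le_pCore [Finite A] (hA : IsFrob F H) (p : ℕ) [Fact p.Prime] {G : Type u} [Group G] [Finite G]
    [MulDistribMulAction A G] (hsol : Group.IsSolvable G) (hfix : ∀ g : G, (∀ f ∈ F, f • g = g) → g = 1)
    (D : Subgroup G) (hD : IsPGroup p D) (hDH : ∀ d ∈ D, ∀ h ∈ H, h • d = d)
    (hDn : ∀ x : G, (∀ h ∈ H, h • x = x) → ∀ d ∈ D, x * d * x⁻¹ ∈ D) : D ≤ pCore p G :=
  le_pCore_aux hA p _ G hsol hfix D hD hDH hDn le_rfl

/-- If `H` has no fixed points then the group is trivial. -/
theorem eq_one [Finite A] (hA : IsFrob F H) {G : Type u} [Group G] [Finite G]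
    [MulDistribMulAction A G] (hsol : Group.IsSolvable G) (hfix : ∀ g : G, (∀ f ∈ F, f • g = g) → g = 1)
    (hH : ∀ g : G, (∀ h ∈ H, h • g = g) → g = 1) (g : G) : g = 1 := by
  rcases subsingleton_or_nontrivial G with hG | hG
  · exact Subsingleton.elim _ _
  obtain ⟨q, hq, -, V, hVchar, hVbot, hVc, hVq⟩ := exists_char_elemAb G hsol
  have : Fact q.Prime := ⟨hq⟩
  have hVA : ∀ (a : A) (v : G), v ∈ V → a • v ∈ V := smul_mem_of_char V hVchar
  exfalso
  apply hVbot
  rw [eq_bot_iff]
  intro v hv
  rw [Subgroup.mem_bot]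
  exact eq_one_elemAb hA V hVA hVc hVq (fun v _ h => hfix v h) (fun v _ h => hH v h) v hv

end

end Cfsg.Agent.H582
end

-- part: H582/Cores
section
/-!
# Frobenius groups of automorphisms: `π`-cores, Fitting subgroup and upper `p`-series of the fixed points

`IsFrob F H`, `A = FH` acts on the finite solvable group `G`, `F` has no fixed points, `C = C_G(H)`.

* `lift` : fixed points of `H` on `G / N` lift;
* `le_piCore` : a `π`-subgroup of `C` normalised by `C` lies in `O_π(G)`;
* `fitting_eq`, `piCore_eq`, `upperPSeries_eq`, `pLengthLE_iff`.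
-/

set_option autoImplicit false

namespace Cfsg.Agent.H582

open Subgroup Cfsg

universe u w

variable {A : Type w} [Group A] {F H : Subgroup A}

theorem lift_aux [Finite A] (hA : IsFrob F H) :
    ∀ (n : ℕ) (G : Type u) [Group G] [Finite G] [MulDistribMulAction A G] (N : Subgroup G) [N.Normal]
      (_ : Group.IsSolvable N) (_ : ∀ (a : A) (n : G), n ∈ N → a • n ∈ N)
      (_ : ∀ g ∈ N, (∀ f ∈ F, f • g = g) → g = 1) (g : G) (_ : ∀ h ∈ H, g⁻¹ * h • g ∈ N),
      Nat.card N ≤ n → ∃ v ∈ N, ∀ h ∈ H, h • (g * v) = g * v := by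
  intro n
  induction n with
  | zero =>
    intro G _ _ _ N _ _ _ _ g _ hn
    exact absurd hn (by have := Nat.card_pos (α := N); omega)
  | succ n ih =>
    intro G _ _ _ N hNn hsol hNA hfix g hg hn
    rcases subsingleton_or_nontrivial N with hN1 | hN1
    · refine ⟨1, N.one_mem, fun h hh => ?_⟩
      have h1 : g⁻¹ * h • g = 1 := congrArg Subtype.val (Subsingleton.elim (⟨_, hg h hh⟩ : N) 1)
      rw [inv_mul_eq_one] at h1
      rw [mul_one, ← h1]
    obtain ⟨q, hq, -, V', hVchar, hVbot, hVc, hVq⟩ := exists_char_elemAb N hsol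
    have : Fact q.Prime := ⟨hq⟩
    set V : Subgroup G := V'.map N.subtype with hV
    have hVN : V ≤ N := Subgroup.map_subtype_le V'
    have hVn : V.Normal := inferInstance
    have hVA : ∀ (a : A) (v : G), v ∈ V → a • v ∈ V := by
      rintro a _ ⟨v, hv, rfl⟩
      let _ : MulDistribMulAction A N := subAct N hNA
      exact ⟨a • v, smul_mem_of_char V' hVchar a v hv, rfl⟩
    have hVc' : ∀ x ∈ V, ∀ y ∈ V, x * y = y * x := by
      rintro _ ⟨x, hx, rfl⟩ _ ⟨y, hy, rfl⟩
      exact congrArg Subtype.val (hVc x hx y hy)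
    have hVq' : ∀ x ∈ V, x ^ q = 1 := by
      rintro _ ⟨x, hx, rfl⟩
      exact congrArg Subtype.val (hVq x hx)
    have hsolV : Group.IsSolvable V := Group.isSolvable_of_comm (fun a b => Subtype.ext (hVc' a a.2 b b.2))
    have hfixV : ∀ v ∈ V, (∀ f ∈ F, f • v = v) → v = 1 := fun v hv h => hfix v (hVN hv) h
    let _ : MulDistribMulAction A (G ⧸ V) := quotAct V hVA
    have hact : ∀ (a : A) (g : G), a • (g : G ⧸ V) = ((a • g : G) : G ⧸ V) := fun _ _ => rfl
    have hcard : Nat.card (N.map (QuotientGroup.mk' V)) ≤ n := by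
      have h1 : Nat.card N = Nat.card V * Nat.card (N.map (QuotientGroup.mk' V)) := by
        rw [← OddOrderLocal.PiCore.card_comap_mk', Subgroup.comap_map_eq, QuotientGroup.ker_mk', sup_eq_left.2 hVN]
      have h2 : 1 < Nat.card V := by
        rw [hV, Subgroup.card_map_of_injective N.subtype_injective, Subgroup.one_lt_card_iff_ne_bot]
        exact hVbot
      have h3 : 0 < Nat.card (N.map (QuotientGroup.mk' V)) := Nat.card_pos
      nlinarith
    have hsolN : Group.IsSolvable (N.map (QuotientGroup.mk' V)) :=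
      Group.isSolvable_of_surjective (f := (QuotientGroup.mk' V).subgroupMap N) (MonoidHom.subgroupMap_surjective _ _)
    obtain ⟨x, hx, hgx⟩ := ih (G ⧸ V) (N.map (QuotientGroup.mk' V)) hsolN (by
        rintro a _ ⟨m, hm, rfl⟩
        exact ⟨a • m, hNA a m hm, rfl⟩) (by
        rintro _ ⟨m, hm, rfl⟩ h
        have h1 : ∀ f : F, m⁻¹ * f • m ∈ V := by
          intro f
          rw [← QuotientGroup.eq]
          exact (h f f.2).symm
        obtain ⟨v, hv, h2⟩ := exists_fixed_of_coset (F := F) hA.nil V (fun f n hn => hVA f n hn) hsolV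
          (fun v hv h => hfixV v hv fun f hf => h ⟨f, hf⟩) m h1
        have h3 := hfix (m * v) (N.mul_mem hm (hVN hv)) (fun f hf => h2 ⟨f, hf⟩)
        change (m : G ⧸ V) = 1
        rw [QuotientGroup.eq_one_iff, mul_eq_one_iff_eq_inv.1 h3]
        exact V.inv_mem hv) (g : G ⧸ V) (by
        intro h hh
        exact ⟨g⁻¹ * h • g, hg h hh, rfl⟩) hcard
    obtain ⟨m, hm, rfl⟩ := hx
    obtain ⟨v, hv, h1⟩ := lift_elemAb hA V hVA hVc' hVq' hfixV (g * m) (by
      intro h hh
      rw [← QuotientGroup.eq]
      exact (hgx h hh).symm)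
    refine ⟨m * v, N.mul_mem hm (hVN hv), fun h hh => ?_⟩
    rw [← mul_assoc]
    exact h1 h hh

/-- Fixed points of the complement on `G / N` lift. -/
theorem lift [Finite A] (hA : IsFrob F H) {G : Type u} [Group G] [Finite G] [MulDistribMulAction A G]
    (N : Subgroup G) [N.Normal] (hsol : Group.IsSolvable N) (hNA : ∀ (a : A) (n : G), n ∈ N → a • n ∈ N)
    (hfix : ∀ g ∈ N, (∀ f ∈ F, f • g = g) → g = 1) (g : G) (hg : ∀ h ∈ H, g⁻¹ * h • g ∈ N) :
    ∃ v ∈ N, ∀ h ∈ H, h • (g * v) = g * v :=
  lift_aux hA _ G N hsol hNA hfix g hg le_rfl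

theorem le_piCore_aux [Finite A] (hA : IsFrob F H) (π : Set ℕ) :
    ∀ (n : ℕ) (G : Type u) [Group G] [Finite G] [MulDistribMulAction A G] (_ : Group.IsSolvable G)
      (_ : ∀ g : G, (∀ f ∈ F, f • g = g) → g = 1) (D : Subgroup G) (_ : ∀ p : ℕ, p.Prime → p ∣ Nat.card D → p ∈ π)
      (_ : ∀ d ∈ D, ∀ h ∈ H, h • d = d) (_ : ∀ x : G, (∀ h ∈ H, h • x = x) → ∀ d ∈ D, x * d * x⁻¹ ∈ D),
      Nat.card G ≤ n → D ≤ piCore π G := by
  intro n
  induction n with
  | zero =>
    intro G _ _ _ _ _ D _ _ _ hn
    exact absurd hn (by have := Nat.card_pos (α := G); omega)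
  | succ n ih =>
    intro G _ _ _ hsol hfix D hD hDH hDn hn
    rcases subsingleton_or_nontrivial (piCore π G) with hN1 | hN1
    · -- `O_π(G) = 1`
      rcases subsingleton_or_nontrivial D with hD1 | hD1
      · intro x hx
        have : x = 1 := congrArg Subtype.val (Subsingleton.elim (⟨x, hx⟩ : D) 1)
        rw [this]; exact one_mem _
      exfalso
      obtain ⟨q, hq, hqD, V, hVchar, hVbot, -, hVq⟩ := exists_char_elemAb D inferInstance
      have hqF : Fact q.Prime := ⟨hq⟩
      have h1 : V.map D.subtype ≤ pCore q G := by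
        refine le_pCore hA q hsol hfix _ ?_ ?_ ?_
        · rintro ⟨_, v, hv, rfl⟩
          refine ⟨1, ?_⟩
          rw [pow_one]
          exact Subtype.ext (congrArg (fun z : D => (z : G)) (hVq v hv))
        · rintro _ ⟨v, hv, rfl⟩ h hh
          exact hDH v v.2 h hh
        · rintro x hx _ ⟨v, hv, rfl⟩
          have hxn : x ∈ normalizer (D : Set G) := by
            rw [Subgroup.mem_normalizer_iff]
            intro y
            refine ⟨fun hy => hDn x hx y hy, fun hy => ?_⟩
            have h2 := hDn x⁻¹ (fun h hh => by rw [smul_inv', hx h hh]) _ hy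
            have h3 : x⁻¹ * (x * y * x⁻¹) * x⁻¹⁻¹ = y := by group
            rwa [h3] at h2
          have h4 := (Subgroup.characteristic_iff_le_comap.1 hVchar) (MulAut.conjNormal (H := D.subgroupOf (normalizer (D : Set G))) ⟨x, hxn⟩ |> fun φ =>
            ((Subgroup.subgroupOfEquivOfLe (le_normalizer (H := D))).symm.trans φ).trans (Subgroup.subgroupOfEquivOfLe (le_normalizer (H := D)))) hv
          exact ⟨_, h4, rfl⟩
      have h2 : pCore q G ≤ piCore π G := by
        refine OddOrderLocal.PiCore.le_piCore (Lib.Cores.pCore_normal q) ?_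
        intro r hr hrd
        obtain ⟨k, hk⟩ := (IsPGroup.iff_card).1 (Lib.Cores.pCore_isPGroup (G := G) q)
        rw [hk] at hrd
        have := (Nat.prime_dvd_prime_iff_eq hr hq).1 (hr.dvd_of_dvd_pow hrd)
        rw [this]
        exact hD q hq hqD
      apply hVbot
      rw [eq_bot_iff]
      intro v hv
      have h3 := h2 (h1 ⟨v, hv, rfl⟩)
      have h4 : ((v : D) : G) = 1 := congrArg Subtype.val (Subsingleton.elim (⟨_, h3⟩ : piCore π G) 1)
      exact Subgroup.mem_bot.2 (Subtype.ext h4)
    · obtain ⟨q, hq, hqN, V', hVchar', hVbot, hVc, hVq⟩ := exists_char_elemAb (piCore π G) inferInstance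
      have : Fact q.Prime := ⟨hq⟩
      have hqπ : q ∈ π := OddOrderLocal.PiCore.piCore_isPi π q hq hqN
      have hchar := OddOrderLocal.PiCore.piCore_characteristic (G := G) π
      set V : Subgroup G := V'.map (piCore π G).subtype with hV
      have hVchar : V.Characteristic := inferInstance
      have hVA : ∀ (a : A) (v : G), v ∈ V → a • v ∈ V := smul_mem_of_char V hVchar
      have hsolV : Group.IsSolvable V := inferInstance
      have hquot := fpf_quot hA hfix V hVA hsolV
      have hcard : Nat.card (G ⧸ V) ≤ n := by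
        have h1 := Subgroup.card_mul_index V
        rw [Subgroup.index] at h1
        have h2 : 1 < Nat.card V := by
          rw [hV, Subgroup.card_map_of_injective (Subgroup.subtype_injective _), Subgroup.one_lt_card_iff_ne_bot]
          exact hVbot
        have h3 : 0 < Nat.card (G ⧸ V) := Nat.card_pos
        nlinarith
      let _ : MulDistribMulAction A (G ⧸ V) := quotAct V hVA
      have hact : ∀ (a : A) (g : G), a • (g : G ⧸ V) = ((a • g : G) : G ⧸ V) := fun _ _ => rfl
      have hDbar : D.map (QuotientGroup.mk' V) ≤ piCore π (G ⧸ V) := by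
        refine ih (G ⧸ V) inferInstance ?_ (D.map (QuotientGroup.mk' V)) ?_ ?_ ?_ hcard
        · intro x hx
          induction x using QuotientGroup.induction_on with
          | H g =>
            rw [QuotientGroup.eq_one_iff]
            refine hquot g fun f hf => ?_
            rw [← QuotientGroup.eq, ← hact, hx f hf]
        · intro p hp hpd
          exact hD p hp (hpd.trans (Subgroup.card_map_dvd D _))
        · rintro _ ⟨d, hd, rfl⟩ h hh
          change h • (d : G ⧸ V) = d
          rw [hact, hDH d hd h hh]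
        · intro x hx
          induction x using QuotientGroup.induction_on with
          | H g =>
            rintro _ ⟨d, hd, rfl⟩
            obtain ⟨v, hv, hgv⟩ := lift hA V hsolV hVA (fun v _ h => hfix v h) g
              (fun h hh => by rw [← QuotientGroup.eq, ← hact, hx h hh])
            refine ⟨(g * v) * d * (g * v)⁻¹, hDn _ hgv d hd, ?_⟩
            have h1 : ((g * v : G) : G ⧸ V) = g := by
              rw [QuotientGroup.mk_mul, (QuotientGroup.eq_one_iff v).2 hv, mul_one]
            change (((g * v) * d * (g * v)⁻¹ : G) : G ⧸ V) = (g : G ⧸ V) * (d : G ⧸ V) * (g : G ⧸ V)⁻¹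
            rw [QuotientGroup.mk_mul, QuotientGroup.mk_mul, QuotientGroup.mk_inv, h1]
      have hn2 : (piCore π (G ⧸ V)).Normal := inferInstance
      refine (Subgroup.map_le_iff_le_comap.1 hDbar).trans ?_
      refine OddOrderLocal.PiCore.le_piCore inferInstance ?_
      intro p hp hpd
      rw [OddOrderLocal.PiCore.card_comap_mk'] at hpd
      rcases hp.dvd_mul.1 hpd with h | h
      · obtain ⟨k, hk⟩ := (IsPGroup.iff_card (p := q)).1 (fun v : V => ⟨1, by
          obtain ⟨_, w, hw, rfl⟩ := v
          rw [pow_one]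
          exact Subtype.ext (congrArg (fun z : piCore π G => (z : G)) (hVq w hw))⟩)
        rw [hk] at h
        have := (Nat.prime_dvd_prime_iff_eq hp hq).1 (hp.dvd_of_dvd_pow h)
        rw [this]; exact hqπ
      · exact OddOrderLocal.PiCore.piCore_isPi π p hp h

end Cfsg.Agent.H582
end

-- part: H582/Final
section
/-!
# Frobenius groups of automorphisms: Fitting subgroup, `π`-core and upper `p`-series of `C_G(H)`

`IsFrob F H`, `A = FH` acts on the finite solvable group `G`, `F` has no fixed points, `C = C_G(H)`.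
-/

set_option autoImplicit false

namespace Cfsg.Agent.H582

open Subgroup Cfsg

universe u w

variable {A : Type w} [Group A] [Finite A] {F H : Subgroup A} {G : Type u} [Group G] [Finite G]
  [MulDistribMulAction A G]

theorem le_piCore (hA : IsFrob F H) (π : Set ℕ) (hsol : Group.IsSolvable G)
    (hfix : ∀ g : G, (∀ f ∈ F, f • g = g) → g = 1) (D : Subgroup G)
    (hD : ∀ p : ℕ, p.Prime → p ∣ Nat.card D → p ∈ π) (hDH : ∀ d ∈ D, ∀ h ∈ H, h • d = d)
    (hDn : ∀ x : G, (∀ h ∈ H, h • x = x) → ∀ d ∈ D, x * d * x⁻¹ ∈ D) : D ≤ piCore π G :=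
  le_piCore_aux hA π _ G hsol hfix D hD hDH hDn le_rfl

theorem piCore_eq (hA : IsFrob F H) (hsol : Group.IsSolvable G)
    (hfix : ∀ g : G, (∀ f ∈ F, f • g = g) → g = 1) (C : Subgroup G)
    (hC : ∀ g : G, g ∈ C ↔ ∀ h ∈ H, h • g = g) (π : Set ℕ) :
    piCore π C = (piCore π G).subgroupOf C := by
  apply le_antisymm
  · have h1 : (piCore π C).map C.subtype ≤ piCore π G := by
      refine le_piCore hA π hsol hfix _ ?_ ?_ ?_
      · intro p hp hpd
        rw [Subgroup.card_map_of_injective C.subtype_injective] at hpd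
        exact OddOrderLocal.PiCore.piCore_isPi π p hp hpd
      · rintro _ ⟨d, -, rfl⟩ h hh
        exact (hC _).1 d.2 h hh
      · rintro x hx _ ⟨d, hd, rfl⟩
        have h2 : (piCore π C).Normal := inferInstance
        exact ⟨_, h2.conj_mem d hd ⟨x, (hC x).2 hx⟩, rfl⟩
    intro x hx
    exact h1 ⟨x, hx, rfl⟩
  · refine OddOrderLocal.PiCore.le_piCore inferInstance ?_
    intro p hp hpd
    refine OddOrderLocal.PiCore.piCore_isPi (G := G) π p hp (hpd.trans ?_)
    have h1 : Nat.card ((piCore π G).subgroupOf C) ∣ Nat.card (piCore π G) := by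
      rw [← Subgroup.inf_subgroupOf_right (piCore π G) C,
        Nat.card_congr (Subgroup.subgroupOfEquivOfLe inf_le_right).toEquiv]
      exact Subgroup.card_dvd_of_le inf_le_left
    exact h1

theorem pCore_le (hA : IsFrob F H) (hsol : Group.IsSolvable G)
    (hfix : ∀ g : G, (∀ f ∈ F, f • g = g) → g = 1) (C : Subgroup G)
    (hC : ∀ g : G, g ∈ C ↔ ∀ h ∈ H, h • g = g) (p : ℕ) [Fact p.Prime] :
    (pCore p C).map C.subtype ≤ pCore p G := by
  refine le_pCore hA p hsol hfix _ ((Lib.Cores.pCore_isPGroup p).map _) ?_ ?_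
  · rintro _ ⟨d, -, rfl⟩ h hh
    exact (hC _).1 d.2 h hh
  · rintro x hx _ ⟨d, hd, rfl⟩
    have h2 : (pCore p C).Normal := Lib.Cores.pCore_normal p
    exact ⟨_, h2.conj_mem d hd ⟨x, (hC x).2 hx⟩, rfl⟩

theorem fitting_eq (hA : IsFrob F H) (hsol : Group.IsSolvable G)
    (hfix : ∀ g : G, (∀ f ∈ F, f • g = g) → g = 1) (C : Subgroup G)
    (hC : ∀ g : G, g ∈ C ↔ ∀ h ∈ H, h • g = g) :
    fittingSubgroup C = (fittingSubgroup G).subgroupOf C := by
  have hn : (fittingSubgroup G).Normal := Lib.Cores.fittingSubgroup_normal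
  apply le_antisymm
  · rw [Lib.Cores.fittingSubgroup_eq_iSup_pCore, iSup_le_iff]
    intro p x hx
    have : Fact (p : ℕ).Prime := ⟨p.2⟩
    exact Lib.Cores.pCore_le_fittingSubgroup p (pCore_le hA hsol hfix C hC p ⟨x, hx, rfl⟩)
  · refine Lib.Cores.le_fittingSubgroup inferInstance ?_
    have := Lib.Cores.fittingSubgroup_isNilpotent (G := G)
    rw [← Lib.Cores.isNilpotent_map_equiv C.subtype_injective, subgroupOf_map_subtype]
    exact Group.isNilpotent_congr (subgroupOfEquivOfLe
      (inf_le_left : fittingSubgroup G ⊓ C ≤ fittingSubgroup G)) |>.mp inferInstance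

/-! ### The upper `p`-series -/

theorem comap_mk_characteristic {G : Type*} [Group G] (N : Subgroup G) [hN : N.Characteristic]
    (K : Subgroup (G ⧸ N)) (hK : K.Characteristic) : (K.comap (QuotientGroup.mk' N)).Characteristic := by
  rw [Subgroup.characteristic_iff_le_comap]
  intro φ x hx
  have h1 : N.map φ.toMonoidHom = N := Subgroup.characteristic_iff_map_eq.1 hN φ
  exact (Subgroup.characteristic_iff_le_comap.1 hK) (QuotientGroup.congr N N φ h1) hx

theorem upperPSeries_characteristic {G : Type*} [Group G] (p : ℕ) (n : ℕ) :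
    (upperPSeries p G n).1.Characteristic := by
  induction n with
  | zero =>
    rw [OddOrderLocal.PLengthOne.upperPSeries_zero]
    infer_instance
  | succ n ih =>
    by_cases hn : Even n
    · rw [OddOrderLocal.PLengthOne.upperPSeries_succ_even p hn]
      exact comap_mk_characteristic _ _ (Lib.Cores.pPrimeCore_characteristic p)
    · rw [OddOrderLocal.PLengthOne.upperPSeries_succ_odd p hn]
      exact comap_mk_characteristic _ _ (Lib.Cores.pCore_characteristic p)

/-- The map `C / (N ∩ C) → G / N`. -/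
def quotMap {G : Type*} [Group G] (C N : Subgroup G) [N.Normal] (N' : Subgroup C) [N'.Normal]
    (h : N' = N.subgroupOf C) : C ⧸ N' →* G ⧸ N :=
  QuotientGroup.map N' N C.subtype (by rw [h]; rfl)

theorem quotMap_injective {G : Type*} [Group G] (C N : Subgroup G) [N.Normal] (N' : Subgroup C) [N'.Normal]
    (h : N' = N.subgroupOf C) : Function.Injective (quotMap C N N' h) := by
  rw [injective_iff_map_eq_one]
  intro x hx
  induction x using QuotientGroup.induction_on with
  | H c =>
    rw [QuotientGroup.eq_one_iff, h]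
    change ((c : G) : G ⧸ N) = 1 at hx
    rw [QuotientGroup.eq_one_iff] at hx
    exact hx

/-- The main step for the terms of the series. -/
theorem step_eq {G : Type*} [Group G] (C N : Subgroup G) [N.Normal] (N' : Subgroup C) [N'.Normal]
    (h : N' = N.subgroupOf C) (K : Subgroup (G ⧸ N)) (K' : Subgroup (C ⧸ N'))
    (h1 : K.comap (quotMap C N N' h) ≤ K') (h2 : K'.map (quotMap C N N' h) ≤ K) :
    K'.comap (QuotientGroup.mk' N') = (K.comap (QuotientGroup.mk' N)).subgroupOf C := by
  apply le_antisymm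
  · intro c hc
    exact h2 ⟨_, hc, rfl⟩
  · intro c hc
    exact h1 hc

/-- The image of `X(C / N')` in `G / N` is fixed by `H` and normalised by the fixed points of `H` on `G / N`. -/
theorem image_props (hA : IsFrob F H) (hsol : Group.IsSolvable G)
    (hfix : ∀ g : G, (∀ f ∈ F, f • g = g) → g = 1) (C : Subgroup G)
    (hC : ∀ g : G, g ∈ C ↔ ∀ h ∈ H, h • g = g) (N : Subgroup G) [N.Normal]
    (hNA : ∀ (a : A) (n : G), n ∈ N → a • n ∈ N) (N' : Subgroup C) [N'.Normal]
    (h : N' = N.subgroupOf C) (K' : Subgroup (C ⧸ N')) (hK' : K'.Normal) :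
    let _ : MulDistribMulAction A (G ⧸ N) := quotAct N hNA
    (∀ d ∈ K'.map (quotMap C N N' h), ∀ h ∈ H, h • d = d) ∧
    (∀ x : G ⧸ N, (∀ h ∈ H, h • x = x) → ∀ d ∈ K'.map (quotMap C N N' h), x * d * x⁻¹ ∈ K'.map (quotMap C N N' h)) ∧
    (∀ x : G ⧸ N, (∀ f ∈ F, f • x = x) → x = 1) ∧
    (∀ x : G ⧸ N, (∀ h ∈ H, h • x = x) → ∃ c ∈ C, x = (c : G ⧸ N)) := by
  intro _
  have hact : ∀ (a : A) (g : G), a • (g : G ⧸ N) = ((a • g : G) : G ⧸ N) := fun _ _ => rfl
  have hsolN : Group.IsSolvable N := inferInstance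
  have hlift : ∀ x : G ⧸ N, (∀ h ∈ H, h • x = x) → ∃ c ∈ C, x = (c : G ⧸ N) := by
    intro x hx
    induction x using QuotientGroup.induction_on with
    | H g =>
      obtain ⟨v, hv, hgv⟩ := lift hA N hsolN hNA (fun v _ h => hfix v h) g
        (fun h hh => by rw [← QuotientGroup.eq, ← hact, hx h hh])
      refine ⟨g * v, (hC _).2 hgv, ?_⟩
      rw [QuotientGroup.mk_mul, (QuotientGroup.eq_one_iff v).2 hv, mul_one]
  refine ⟨?_, ?_, ?_, hlift⟩
  · rintro _ ⟨d, -, rfl⟩ a ha
    induction d using QuotientGroup.induction_on with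
    | H c =>
      change a • ((c : G) : G ⧸ N) = ((c : G) : G ⧸ N)
      rw [hact, (hC _).1 c.2 a ha]
  · rintro x hx _ ⟨d, hd, rfl⟩
    obtain ⟨c, hc, rfl⟩ := hlift x hx
    refine ⟨((⟨c, hc⟩ : C) : C ⧸ N') * d * ((⟨c, hc⟩ : C) : C ⧸ N')⁻¹, hK'.conj_mem d hd _, ?_⟩
    rw [map_mul, map_mul, map_inv]
    rfl
  · intro x hx
    induction x using QuotientGroup.induction_on with
    | H g =>
      rw [QuotientGroup.eq_one_iff]
      refine fpf_quot hA hfix N hNA hsolN g fun f hf => ?_
      rw [← QuotientGroup.eq, ← hact, hx f hf]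

theorem upperPSeries_eq (hA : IsFrob F H) (hsol : Group.IsSolvable G)
    (hfix : ∀ g : G, (∀ f ∈ F, f • g = g) → g = 1) (C : Subgroup G)
    (hC : ∀ g : G, g ∈ C ↔ ∀ h ∈ H, h • g = g) (p : ℕ) [hp : Fact p.Prime] (n : ℕ) :
    (upperPSeries p C n).1 = (upperPSeries p G n).1.subgroupOf C := by
  induction n with
  | zero =>
    rw [OddOrderLocal.PLengthOne.upperPSeries_zero, OddOrderLocal.PLengthOne.upperPSeries_zero,
      Subgroup.bot_subgroupOf]
  | succ n ih =>
    have hchar := upperPSeries_characteristic (G := G) p n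
    have hNA : ∀ (a : A) (v : G), v ∈ (upperPSeries p G n).1 → a • v ∈ (upperPSeries p G n).1 :=
      smul_mem_of_char _ hchar
    have hinj := quotMap_injective C (upperPSeries p G n).1 (upperPSeries p C n).1 ih
    have hsolQ : Group.IsSolvable (G ⧸ (upperPSeries p G n).1) := inferInstance
    by_cases hn : Even n
    · rw [OddOrderLocal.PLengthOne.upperPSeries_succ_even p hn, OddOrderLocal.PLengthOne.upperPSeries_succ_even p hn]
      obtain ⟨h1, h2, h3, -⟩ := image_props hA hsol hfix C hC (upperPSeries p G n).1 hNA (upperPSeries p C n).1 ih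
        (pPrimeCore p (C ⧸ (upperPSeries p C n).1)) (Lib.Cores.pPrimeCore_normal p)
      have hn1 : (pPrimeCore p (G ⧸ (upperPSeries p G n).1)).Normal := Lib.Cores.pPrimeCore_normal p
      refine step_eq C _ _ ih _ _ ?_ ?_
      · refine Lib.Cores.le_pPrimeCore inferInstance ?_
        refine Nat.Coprime.coprime_dvd_left ?_ (Lib.Cores.pPrimeCore_coprime (G := G ⧸ (upperPSeries p G n).1) p)
        exact Subgroup.card_comap_dvd_of_injective _ _ hinj
      · let _ : MulDistribMulAction A (G ⧸ (upperPSeries p G n).1) := quotAct _ hNA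
        have h4 := le_piCore hA {q | q ≠ p} hsolQ h3 _ (by
          intro q hq hqd hqp
          rw [Subgroup.card_map_of_injective hinj] at hqd
          have h5 := Lib.Cores.pPrimeCore_coprime (G := C ⧸ (upperPSeries p C n).1) p
          rw [hqp] at hqd
          exact hp.out.one_lt.ne' (Nat.eq_one_of_dvd_coprimes h5 hqd dvd_rfl)) h1 h2
        refine h4.trans (Lib.Cores.le_pPrimeCore inferInstance ?_)
        rw [Nat.coprime_comm, hp.out.coprime_iff_not_dvd]
        intro h5
        exact OddOrderLocal.PiCore.piCore_isPi (G := G ⧸ (upperPSeries p G n).1) {q | q ≠ p} p hp.out h5 rfl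
    · rw [OddOrderLocal.PLengthOne.upperPSeries_succ_odd p hn, OddOrderLocal.PLengthOne.upperPSeries_succ_odd p hn]
      obtain ⟨h1, h2, h3, -⟩ := image_props hA hsol hfix C hC (upperPSeries p G n).1 hNA (upperPSeries p C n).1 ih
        (pCore p (C ⧸ (upperPSeries p C n).1)) (Lib.Cores.pCore_normal p)
      have hn1 : (pCore p (G ⧸ (upperPSeries p G n).1)).Normal := Lib.Cores.pCore_normal p
      refine step_eq C _ _ ih _ _ ?_ ?_
      · refine Lib.Cores.le_pCore inferInstance ?_
        exact (Lib.Cores.pCore_isPGroup p).comap_of_injective _ hinj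
      · let _ : MulDistribMulAction A (G ⧸ (upperPSeries p G n).1) := quotAct _ hNA
        exact le_pCore hA p hsolQ h3 _ ((Lib.Cores.pCore_isPGroup p).map _) h1 h2

theorem pLengthLE_iff (hA : IsFrob F H) (hsol : Group.IsSolvable G)
    (hfix : ∀ g : G, (∀ f ∈ F, f • g = g) → g = 1) (C : Subgroup G)
    (hC : ∀ g : G, g ∈ C ↔ ∀ h ∈ H, h • g = g) (p : ℕ) [Fact p.Prime] (k : ℕ) :
    PLengthLE p k G ↔ PLengthLE p k C := by
  unfold PLengthLE
  rw [upperPSeries_eq hA hsol hfix C hC p]
  constructor
  · intro h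
    rw [h, Subgroup.top_subgroupOf]
  · intro h
    rw [Subgroup.subgroupOf_eq_top] at h
    have hchar := upperPSeries_characteristic (G := G) p (2 * k + 1)
    have hNA : ∀ (a : A) (v : G), v ∈ (upperPSeries p G (2 * k + 1)).1 → a • v ∈ (upperPSeries p G (2 * k + 1)).1 :=
      smul_mem_of_char _ hchar
    obtain ⟨-, -, h3, h4⟩ := image_props hA hsol hfix C hC (upperPSeries p G (2 * k + 1)).1 hNA
      ((upperPSeries p G (2 * k + 1)).1.subgroupOf C) rfl ⊥ inferInstance
    let _ : MulDistribMulAction A (G ⧸ (upperPSeries p G (2 * k + 1)).1) := quotAct _ hNA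
    rw [eq_top_iff]
    intro g _
    rw [← QuotientGroup.eq_one_iff]
    refine eq_one hA (G := G ⧸ (upperPSeries p G (2 * k + 1)).1) inferInstance h3 ?_ _
    intro x hx
    obtain ⟨c, hc, rfl⟩ := h4 x hx
    rw [QuotientGroup.eq_one_iff]
    exact h hc

end Cfsg.Agent.H582
end
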